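import Groth.Agent.AGF.K493.SolvU
import Groth.Agent.Sga3B.RG.DynRel
import Groth.Agent.Sga3B.RG.Rigid

/-!
# Groups with a normal maximal torus, on points

`K` algebraically closed, `T` a maximal torus of the group of points of `A`, normal: the identity component is `T × U` with `U` the
closed connected normal subgroup of its unipotent points.
-/

set_option autoImplicit false

universe u

open CategoryTheory MonoidalCategory CartesianMonoidalCategory MonObj GrpObj AlgebraicGeometry Limits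
open Groth.Agent.Books.AffBridge Groth.Agent.Books.AffBridge2

namespace K191.CartPts

open Groth.Agent.Sga3B Groth.Agent.Sga3B.RG Groth.Agent.Sga3B.RG.BrPts Groth.Agent.Sga3B.RG.BrMax
open Groth.Agent.Agf.H614.AlgDict Groth.Agent.Sga3B.Parab.BorelPts172

variable {K : Type u} [Field K] [IsAlgClosed K] {A : Type u} [CommRing A] [HopfAlgebra K A] [Algebra.FiniteType K A]
  [_root_.IsReduced A]

theorem exists_cartan {T : Subgroup (Pt K A)} (hT : IsMaxTorusSub T) (hn : T.Normal) :
    ∃ U : Subgroup (Pt K A), IsCl (U : Set (Pt K A)) ∧ IsConn (U : Set (Pt K A)) ∧ U.Normal ∧ (∀ g ∈ U, IsUnip g) ∧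
      ∀ g ∈ idComp (⊤ : Subgroup (Pt K A)), ∃ t ∈ T, ∃ u ∈ U, g = t * u := by
  have hTcl : IsCl (T : Set (Pt K A)) := Rigid.isCl_of_isTorusSub hT.1
  have htop : IsCl ((⊤ : Subgroup (Pt K A)) : Set (Pt K A)) := fun _ _ => trivial
  let H : Subgroup (Pt K A) := idComp ⊤
  have hHcl : IsCl (H : Set (Pt K A)) := isCl_idComp _
  have hHc : IsConn (H : Set (Pt K A)) := isConn_idComp _
  have hHn : H.Normal := normal_idComp htop inferInstance
  have hTH : T ≤ H := le_idComp (IsTorusSub.isConn hT.1) le_top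
  have hcomm : ∀ h ∈ H, ∀ t ∈ T, h * t = t * h :=
    Rigid.commute_of_normalizes hT.1 hHc H.one_mem fun h _ t ht => hn.conj_mem t ht h
  let I := vanIdeal (H : Set (Pt K A))
  have hdom : IsDomain (A ⧸ I) := (Ideal.Quotient.isDomain_iff_prime _).2 hHc
  let T₁ : Subgroup (Pt K (A ⧸ I)) := T.comap (quotMap I)
  have hT₁ : IsMaxTorusSub T₁ := IsMaxTorusIn.comap_quotMap hHcl (hT.isMaxTorusIn hTH)
  have hcen : T₁ ≤ Subgroup.center (Pt K (A ⧸ I)) := by
    intro t ht
    rw [Subgroup.mem_center_iff]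
    intro g
    apply quotMap_injective (K := K) I
    rw [map_mul, map_mul]
    exact hcomm _ (subEquiv H hHcl g).2 _ ht
  have hnil := Groth.Agent.Agf.H611.NilPts.isNilpotent_of_isMaxTorusSub_le_center hT₁ hcen
  have hccs : IsCCS H := by
    refine ⟨hHcl, hHc, ?_⟩
    have h1 : Group.IsNilpotent H := Group.nilpotent_of_mulEquiv (subEquiv H hHcl)
    infer_instance
  obtain ⟨U, hUcl, hUc, hU⟩ := K493.SolvU.exists_unip hccs
  refine ⟨U, hUcl, hUc, ⟨fun u hu g => (hU _).2 ⟨hHn.conj_mem _ ((hU u).1 hu).1 g, ((hU u).1 hu).2.conj g⟩⟩,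
    fun g hg => ((hU g).1 hg).2, fun g hg => ?_⟩
  obtain ⟨x, hx⟩ := (subEquiv H hHcl).surjective ⟨g, hg⟩
  have hx' : quotMap I x = g := congrArg Subtype.val hx
  obtain ⟨s, hs, u, hu, e⟩ := CentralTorus.exists_mul_unip hT₁ hcen x
  refine ⟨quotMap I s, hs, quotMap I u, (hU _).2 ⟨(subEquiv H hHcl u).2, ?_⟩, by rw [← hx', e, map_mul]⟩
  exact (isUnip_map_iff (φ := Bialgebra.Quotient.mkBialgHom (R := K) I) Ideal.Quotient.mk_surjective).2 hu

end K191.CartPts
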