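import Groth.Agent.NonAbH1.K191.NormTors
import Groth.Agent.Agf.H609.GrothFinal
import Groth.Agent.S3006

/-!
# Finite subgroups surjecting on `H¹`: assembly
-/

set_option autoImplicit false
universe u

open CategoryTheory CategoryTheory.Limits MonoidalCategory CartesianMonoidalCategory MonObj GrpObj AlgebraicGeometry
open Groth.Agent Groth.Agent.Books.AffBridge Groth.Agent.Books.AffBridge2 Groth.Agent.Sga3B Groth.Agent.Sga3B.RG
open Groth.Agent.Books.BorelOrb K554.Fpqc K191.GalPt K191.Lp

namespace K191.FinAsm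

/-- Every torsor has a geometric point whose conjugates differ by elements of the normaliser of the maximal torus. -/
def RedTor (k : Type u) [Field k] : Prop :=
  ∀ (G : Over (Spec (CommRingCat.of k))) [GrpObj G] [IsAffine G.left] [LocallyOfFiniteType G.hom]
    {T N : Over (Spec (CommRingCat.of k))} [GrpObj T] [GrpObj N] (t : T ⟶ G) (n : N ⟶ G) (_ : Red.IsMaximalTorus t)
    (_ : Red.IsNormalizerOf t n) (_ : IsClosedImmersion n.left) (K : Type u) [Field K] [Algebra k K]
    (P : NonAbH1.TorsorSch (Red.bc (ff k K) G) Scheme.etalePrecoverage),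
    ∃ x : Om K (AlgebraicClosure K) ⟶ P.X, ∀ σ : AlgebraicClosure K ≃ₐ[K] AlgebraicClosure K,
      ∃ h : Om K (AlgebraicClosure K) ⟶ Red.bc (ff k K) N, gs σ ≫ x = sm P.act (h ≫ (Over.pullback (ff k K)).map n) x

section General

variable {S : Scheme.{u}} {G T N : Over S} [GrpObj G] [GrpObj T] [GrpObj N]

/-- The torus is in its normaliser. -/
theorem exists_factor (t : T ⟶ G) [IsMonHom t] (n : N ⟶ G) (hn : Red.IsNormalizerOf t n) :
    ∃ z : T ⟶ N, z ≫ n = t ∧ IsMonHom z ∧ AlgGrp.IsNormalHom z := by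
  have h1 : IsMonHom n := hn.1
  have h2 : Mono n := hn.2.1
  obtain ⟨z, hz⟩ := (hn.2.2 T t).2 (by
    intro X' x h
    refine ⟨⟨x * h * x⁻¹, ?_⟩, ⟨x⁻¹ * h * x, ?_⟩⟩
    · rw [MonObj.mul_comp, MonObj.mul_comp, GrpObj.inv_comp]
    · rw [MonObj.mul_comp, MonObj.mul_comp, GrpObj.inv_comp])
  have hzm : IsMonHom z := by
    refine ⟨?_, ?_⟩
    · rw [← cancel_mono n, Category.assoc, hz, IsMonHom.one_hom, IsMonHom.one_hom]
    · have h3 : μ[T] ≫ z ≫ n = ((z ≫ n) ⊗ₘ (z ≫ n)) ≫ μ[G] := by
        rw [hz]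
        exact IsMonHom.mul_hom t
      rw [← cancel_mono n, Category.assoc, h3, Category.assoc, IsMonHom.mul_hom,
        MonoidalCategory.tensorHom_comp_tensorHom_assoc]
  refine ⟨z, hz, hzm, ?_⟩
  intro R g x
  obtain ⟨⟨h', hh'⟩, -⟩ := (hn.2.2 R (g ≫ n)).1 ⟨g, rfl⟩ R (𝟙 R) x
  refine ⟨h', ?_⟩
  rw [← cancel_mono n, MonObj.mul_comp, MonObj.mul_comp, GrpObj.inv_comp, Category.assoc, Category.assoc, hz, ← hh',
    Category.id_comp]

/-- A maximal torus of `G` contained in `N` is a maximal torus of `N`. -/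
theorem isMaximalTorus_of_comp (z : T ⟶ N) [IsMonHom z] (n : N ⟶ G) [IsMonHom n] [Mono n]
    (h : Red.IsMaximalTorus (z ≫ n)) : Red.IsMaximalTorus z := by
  obtain ⟨h1, h2, h3, h4⟩ := h
  refine ⟨inferInstance, mono_of_mono z n, h3, fun s T' _ j _ _ f hT' hf => ?_⟩
  have h5 : Mono ((Over.pullback (Red.geomPt s)).map n) := inferInstance
  have h6 : IsMonHom ((Over.pullback (Red.geomPt s)).map n) := inferInstance
  refine h4 s T' (j ≫ (Over.pullback (Red.geomPt s)).map n) f hT' ?_
  rw [← Category.assoc, hf, ← Functor.map_comp]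

end General

theorem main (k : Type u) [Field k] [IsAlgClosed k] [CharZero k] (hred : RedTor k)
    (G : Over (Spec (CommRingCat.of k))) [GrpObj G] [IsAffine G.left] [LocallyOfFiniteType G.hom] :
    ∃ (S : Over (Spec (CommRingCat.of k))) (_ : GrpObj S) (i : S ⟶ G),
      IsMonHom i ∧ IsClosedImmersion i.left ∧ IsFinite S.hom ∧
      ∀ (K : Type u) [Field K] [Algebra k K]
        (P : NonAbH1.TorsorSch (Red.bc (Spec.map (CommRingCat.ofHom (algebraMap k K))) G) Scheme.etalePrecoverage),
        ∃ Q : NonAbH1.TorsorSch (Red.bc (Spec.map (CommRingCat.ofHom (algebraMap k K))) S) Scheme.etalePrecoverage,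
          NonAbH1.IsPushforwardAlongSch ((Over.pullback (Spec.map (CommRingCat.ofHom (algebraMap k K)))).map i) Q.act P.act := by
  have hsm : Smooth G.hom := Groth.Agent.S0353.result k G
  have hqc : QuasiCompact G.hom := inferInstance
  obtain ⟨T, _, t, ht⟩ := Agf.H609.GrothFinal.exists_isMaximalTorus G
  have htm : IsMonHom t := ht.1
  have hcl : IsClosedImmersion t.left := by
    obtain ⟨A, _, _, e, he⟩ := exists_hopf k G
    have hftA : Algebra.FiniteType k A := by
      rw [← locallyOfFiniteType_specOver_iff, hom_eq_of_iso e.symm]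
      infer_instance
    have htmo : Mono t := ht.2.1
    have h1 : IsClosedImmersion (t ≫ e.hom).left := BrTorus.isClosedImmersion_of_torus _ ht.2.2.1
    have : IsIso e.inv.left := inferInstanceAs (IsIso ((Over.forget _).map e.inv))
    have h2 : t.left = (t ≫ e.hom).left ≫ e.inv.left := by
      rw [← Over.comp_left, Category.assoc, Iso.hom_inv_id, Category.comp_id]
    rw [h2]
    infer_instance
  obtain ⟨-, N, _, n, hn, hncl, hNsm⟩ := Groth.Agent.S3006.result (Spec (CommRingCat.of k)) G T t hcl ht.2.2.1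
  have hnm : IsMonHom n := hn.1
  have hnmo : Mono n := hn.2.1
  obtain ⟨z, hz, hzm, hznor⟩ := exists_factor t n hn
  have hzmax : Red.IsMaximalTorus z := isMaximalTorus_of_comp z n (by rw [hz]; exact ht)
  have hNaff : IsAffine N.left := isAffine_of_isAffineHom n.left
  obtain ⟨S, _, i, him, hicl, hSfin, hS⟩ := K191.NormTors.main N z hzmax hznor
  refine ⟨S, inferInstance, i ≫ n, inferInstance, ?_, hSfin, fun K _ _ P => ?_⟩
  · rw [Over.comp_left]
    infer_instance
  have hK : CharZero K := charZero_of_injective_algebraMap (algebraMap k K).injective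
  obtain ⟨x, hx⟩ := hred G t n ht hn hncl K P
  have hbcl : IsClosedImmersion ((Over.pullback (ff k K)).map n).left :=
    MorphismProperty.overPullbackMap (P := @IsClosedImmersion) (ff k K) n hncl
  have hbft : LocallyOfFiniteType (Red.bc (ff k K) N).hom :=
    inferInstanceAs (LocallyOfFiniteType (pullback.snd N.hom (ff k K)))
  obtain ⟨P', f, hf⟩ := RedTors.exists_torsor ((Over.pullback (ff k K)).map n) (AlgebraicClosure K) P.isTorsor.1 x hx
  obtain ⟨Q, g, hg⟩ := hS K P'
  refine ⟨Q, g ≫ f, ?_⟩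
  rw [← Category.assoc, hg, Category.assoc, hf, ← Category.assoc]
  congr 1
  rw [comp_lift, lift_fst_assoc, lift_snd_assoc, Functor.map_comp, Category.assoc, Category.assoc]

end K191.FinAsm
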