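import Groth.Agent.NonAbH1.K191.GalPt
import Groth.Agent.NonAbH1.K554.EtaleSec
import Groth.Agent.S0353
import Mathlib.AlgebraicGeometry.Morphisms.LocalFlatDescent

/-!
# Reduction of a torsor over a field of characteristic zero to a closed subgroup
-/

set_option autoImplicit false
universe u

open CategoryTheory CategoryTheory.Limits MonoidalCategory CartesianMonoidalCategory MonObj GrpObj AlgebraicGeometry
open Groth.Agent.Books.BorelOrb K554.Fpqc K554.FibAct TensorProduct K191.GalPt

namespace K191.RedTors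

variable {K : Type u} [Field K]

/-- A nonempty smooth scheme over a field is étale locally trivial. -/
theorem locTriv_etale (P : Over (Spec (CommRingCat.of K))) [Smooth P.hom] [Nonempty P.left] :
    NonAbH1.IsLocallyTrivialFor Scheme.etalePrecoverage P := by
  have h1 : Surjective P.hom := K826.TorsField.surjective_of_nonempty _
  obtain ⟨Y, g, hY, hg, hs, s, hs'⟩ := K554.EtaleSec.exists_etale_affine P.hom
  refine ⟨Presieve.singleton g, ?_, ?_⟩
  · rw [← Presieve.ofArrows_pUnit.{0}, Scheme.etalePrecoverage, Scheme.ofArrows_mem_precoverage_iff]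
    refine ⟨fun x => ?_, fun _ => hg⟩
    obtain ⟨y, hy⟩ := hs.surj x
    exact ⟨PUnit.unit, y, hy⟩
  · rintro _ _ ⟨⟩
    exact ⟨s, hs'⟩

theorem nonempty_of_etale {P : Over (Spec (CommRingCat.of K))}
    (h : NonAbH1.IsLocallyTrivialFor Scheme.etalePrecoverage P) : Nonempty P.left := by
  obtain ⟨R, hR, hsec⟩ := h
  obtain ⟨I, X, g, rfl⟩ := R.exists_eq_ofArrows
  rw [Scheme.etalePrecoverage, Scheme.ofArrows_mem_precoverage_iff] at hR
  obtain ⟨i, x, -⟩ := hR.1 (IsLocalRing.closedPoint K)
  obtain ⟨s, -⟩ := hsec (g i) ⟨i⟩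
  exact ⟨s x⟩

/-- A pseudo-torsor with nonempty total space under a group locally of finite type over a field of characteristic zero is an étale torsor. -/
theorem isTorsorFor_etale [CharZero K] {G P : Over (Spec (CommRingCat.of K))} [GrpObj G] [LocallyOfFiniteType G.hom]
    (a : AlgGrp.Action G P) (ha : NonAbH1.IsPseudoTorsorSch a) [Nonempty P.left] :
    NonAbH1.IsTorsorFor Scheme.etalePrecoverage a := by
  have h1 : Smooth G.hom := Groth.Agent.S0353.result K G
  have h2 : Smooth P.hom := K826.TorsField.prop_of_pseudo a ha @Smooth h1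
  exact ⟨ha, locTriv_etale P⟩

/-- A scheme locally of finite type over a field has a point over the algebraic closure. -/
theorem exists_pt (L : Type u) [Field L] [Algebra K L] [IsAlgClosed L] (P : Over (Spec (CommRingCat.of K)))
    [LocallyOfFiniteType P.hom] [Nonempty P.left] : Nonempty (Om K L ⟶ P) := by
  obtain ⟨p⟩ := ‹Nonempty P.left›
  obtain ⟨U, hU, hpU, -⟩ := exists_isAffineOpen_mem_and_subset (X := P.left) (x := p) (U := ⊤) trivial
  let C := Γ(P.left, U)
  let q : Spec C ⟶ Spec (CommRingCat.of K) := hU.fromSpec ≫ P.hom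
  let φ : CommRingCat.of K ⟶ C := Spec.preimage q
  have hφ : Spec.map φ = q := Spec.map_preimage q
  let _ : Algebra K C := φ.hom.toAlgebra
  have hft : Algebra.FiniteType K C := by
    have h1 : LocallyOfFiniteType (Spec.map φ) := by rw [hφ]; infer_instance
    exact (HasRingHomProperty.Spec_iff (P := @LocallyOfFiniteType)).1 h1
  have hnt : Nontrivial C := by
    have h1 : Nonempty (Spec C) := by
      have h2 : p ∈ Set.range hU.fromSpec := by rw [hU.range_fromSpec]; exact hpU
      obtain ⟨c, -⟩ := h2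
      exact ⟨c⟩
    exact PrimeSpectrum.nonempty_iff_nontrivial.1 h1
  obtain ⟨m, hm⟩ := Ideal.exists_maximal C
  let _ : Field (C ⧸ m) := Ideal.Quotient.field m
  have hfin : Module.Finite K (C ⧸ m) := finite_of_finite_type_of_isJacobsonRing K (C ⧸ m)
  let ψ : (C ⧸ m) →ₐ[K] L := IsAlgClosed.lift
  let χ : C →ₐ[K] L := ψ.comp (Ideal.Quotient.mkₐ K m)
  refine ⟨Over.homMk (Spec.map (CommRingCat.ofHom (χ : C →+* L)) ≫ hU.fromSpec) ?_⟩
  change (Spec.map (CommRingCat.ofHom (χ : C →+* L)) ≫ hU.fromSpec) ≫ P.hom =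
    Spec.map (CommRingCat.ofHom (algebraMap K L))
  rw [Category.assoc]
  change Spec.map (CommRingCat.ofHom (χ : C →+* L)) ≫ q = _
  rw [← hφ, ← Spec.map_comp]
  congr 1
  ext c
  exact χ.commutes c

variable {G H : Over (Spec (CommRingCat.of K))} [GrpObj G] [GrpObj H] (i : H ⟶ G) [IsMonHom i]
  [IsClosedImmersion i.left]

/-- Reduction of the structure group. -/
theorem exists_torsor [CharZero K] [LocallyOfFiniteType H.hom] (L : Type u) [Field L] [Algebra K L] [IsAlgClosed L]
    [Algebra.IsAlgebraic K L]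
    {P : Over (Spec (CommRingCat.of K))} {a : AlgGrp.Action G P} (ha : NonAbH1.IsPseudoTorsorSch a) (x : Om K L ⟶ P)
    (hx : ∀ σ : L ≃ₐ[K] L, ∃ h : Om K L ⟶ H, gs σ ≫ x = sm a (h ≫ i) x) :
    ∃ Q : NonAbH1.TorsorSch H Scheme.etalePrecoverage, NonAbH1.IsPushforwardAlongSch i Q.act a := by
  have hfl : Flat (Om K L).hom := K826.TorsField.flat_of_field _
  have hne : Nonempty (Om K L).left := inferInstanceAs (Nonempty (Spec (CommRingCat.of L)))
  have hsu : Surjective (Om K L).hom := K826.TorsField.surjective_of_nonempty _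
  have hqc : QuasiCompact (Om K L).hom := by
    change QuasiCompact (Spec.map (CommRingCat.ofHom (algebraMap K L)))
    infer_instance
  obtain ⟨Q, z, b, hz, hb, hbz, y, hy⟩ := K191.Reduce.exists_sub i ha x
    ((Groth.Agent.S5356.result).2.2.1 K _ (Om K L).hom) (by
      apply exists_h0 i
      intro σ
      obtain ⟨h, hh⟩ := hx σ
      refine ⟨h, ?_⟩
      rw [comp_dif, lift_snd_assoc, lift_fst_assoc, Category.id_comp]
      exact (dif_eq ha hh.symm).symm)
  have hneQ : Nonempty Q.left := by
    obtain ⟨w⟩ := hne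
    exact ⟨y.left w⟩
  refine ⟨⟨Q, b, isTorsorFor_etale b hb⟩, z, ?_⟩
  have h1 := hbz (H ⊗ Q) (fst H Q) (snd H Q)
  rw [sm, sm, lift_fst_snd, Category.id_comp] at h1
  exact h1

end K191.RedTors
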