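import Groth.Agent.NonAbH1.K191.FinAsm
import Groth.Agent.NonAbH1.K944.TorRed

/-!
# Finite subgroups surjecting on `H¹`: the row
-/

set_option autoImplicit false
universe u

open CategoryTheory CategoryTheory.Limits MonoidalCategory CartesianMonoidalCategory MonObj GrpObj AlgebraicGeometry
open Groth.Agent Groth.Agent.Books.BorelOrb K191.GalPt K191.Lp

namespace K191.FinRow

theorem isStrictTransporter {S : Scheme.{u}} {G T N : Over S} [GrpObj G] [GrpObj T] [GrpObj N] {t : T ⟶ G} {n : N ⟶ G}
    (hn : Red.IsNormalizerOf t n) : _root_.RedSub.IsStrictTransporter t t n :=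
  ⟨hn.2.1, fun X g => (hn.2.2 X g).trans
    ⟨fun h X' x => ⟨fun a => (h X' x a).1, fun a => (h X' x a).2⟩,
      fun h X' x a => ⟨(h X' x).1 a, (h X' x).2 a⟩⟩⟩

theorem redTor (k : Type u) [Field k] [CharZero k] : K191.FinAsm.RedTor k := by
  intro G _ _ _ T N _ _ t n ht hn hcl K _ _ P
  have hsm : Smooth G.hom := Groth.Agent.S0353.result k G
  have hne : Nonempty P.X.left := RedTors.nonempty_of_etale P.isTorsor.2
  exact K944.TorRed.exists_main ht (isStrictTransporter hn) K P.act P.isTorsor.1 (AlgebraicClosure K)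

end K191.FinRow
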