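import Groth.Agent.NonAbH1.K191.GrpStep

/-!
# Finite supplements

`E` a group, `V` a normal abelian divisible subgroup of finite index `n`: there is a subgroup `S` with `S V = E` and
`S ∩ V = V[n]`.  Versions for nilpotent uniquely divisible `V`.
-/

set_option autoImplicit false

namespace K191.FinSup

open Subgroup K191.GrpStep

variable {E : Type*} [Group E]

/-- the `n`-torsion of a normal abelian subgroup -/
def tor (V : Subgroup E) (hc : ∀ a ∈ V, ∀ b ∈ V, a * b = b * a) (n : ℕ) : Subgroup E where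
  carrier := {v | v ∈ V ∧ v ^ n = 1}
  one_mem' := ⟨V.one_mem, one_pow n⟩
  mul_mem' := by
    rintro a b ⟨ha, ha'⟩ ⟨hb, hb'⟩
    refine ⟨V.mul_mem ha hb, ?_⟩
    rw [(show Commute a b from hc a ha b hb).mul_pow, ha', hb', one_mul]
  inv_mem' := by
    rintro a ⟨ha, ha'⟩
    exact ⟨V.inv_mem ha, by rw [inv_pow, ha', inv_one]⟩

theorem mem_tor {V : Subgroup E} {hc : ∀ a ∈ V, ∀ b ∈ V, a * b = b * a} {n : ℕ} {v : E} :
    v ∈ tor V hc n ↔ v ∈ V ∧ v ^ n = 1 := Iff.rfl

instance (V : Subgroup E) [V.Normal] (hc : ∀ a ∈ V, ∀ b ∈ V, a * b = b * a) (n : ℕ) : (tor V hc n).Normal where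
  conj_mem := by
    rintro v ⟨hv, hv'⟩ g
    exact ⟨‹V.Normal›.conj_mem v hv g, by rw [conj_pow, hv', mul_one, mul_inv_cancel]⟩

/-- **Finite supplements of divisible abelian normal subgroups**. -/
theorem exists_sup (V : Subgroup E) [V.Normal] [V.FiniteIndex] (hc : ∀ a ∈ V, ∀ b ∈ V, a * b = b * a)
    (hdiv : ∀ v ∈ V, ∃ w ∈ V, w ^ V.index = v) :
    ∃ S : Subgroup E, (∀ e : E, ∃ s ∈ S, ∃ v ∈ V, e = s * v) ∧ ∀ s : E, s ∈ S ∧ s ∈ V ↔ s ∈ tor V hc V.index := by
  classical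
  let Q := E ⧸ V
  let _ : Fintype Q := Fintype.ofFinite Q
  let n := V.index
  have hn : n = Fintype.card Q := by
    change V.index = _
    rw [Subgroup.index, Nat.card_eq_fintype_card]
  let π : E →* Q := QuotientGroup.mk' V
  have hπ : ∀ g, π g = 1 ↔ g ∈ V := fun g => QuotientGroup.eq_one_iff g
  let s : Q → E := fun q => q.out
  have hs : ∀ q, π (s q) = q := fun q => Quotient.out_eq' q
  let _ : CommGroup V := { (inferInstance : Group V) with
    mul_comm := fun a b => Subtype.ext (hc a a.2 b b.2) }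
  let f : Q → Q → V := fun x y => ⟨s x * s y * (s (x * y))⁻¹, by
    rw [← hπ, map_mul, map_mul, map_inv, hs, hs, hs, mul_inv_cancel]⟩
  let c : Q → V →* V := fun x =>
    { toFun := fun v => ⟨s x * v * (s x)⁻¹, ‹V.Normal›.conj_mem _ v.2 _⟩
      map_one' := Subtype.ext (by simp)
      map_mul' := fun v w => Subtype.ext (by
        change s x * (v * w) * (s x)⁻¹ = (s x * v * (s x)⁻¹) * (s x * w * (s x)⁻¹)
        group) }
  have hf : ∀ x y z, f x y * f (x * y) z = c x (f y z) * f x (y * z) := by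
    intro x y z
    apply Subtype.ext
    change s x * s y * (s (x * y))⁻¹ * (s (x * y) * s z * (s (x * y * z))⁻¹) =
      s x * (s y * s z * (s (y * z))⁻¹) * (s x)⁻¹ * (s x * s (y * z) * (s (x * (y * z)))⁻¹)
    rw [mul_assoc x y z]
    group
  let a : Q → V := fun x => ∏ z : Q, f x z
  have ha : ∀ x y, f x y ^ n * a (x * y) = c x (a y) * a x := by
    intro x y
    have h1 : ∏ z : Q, (f x y * f (x * y) z) = ∏ z : Q, (c x (f y z) * f x (y * z)) :=
      Finset.prod_congr rfl fun z _ => hf x y z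
    rw [Finset.prod_mul_distrib, Finset.prod_mul_distrib, Finset.prod_const, Finset.card_univ, ← hn, ← map_prod] at h1
    have h2 : ∏ z : Q, f x (y * z) = a x := Fintype.prod_equiv (Equiv.mulLeft y) _ _ fun z => rfl
    rw [h2] at h1
    exact h1
  have hb : ∀ x, ∃ b : V, b ^ n = (a x)⁻¹ := by
    intro x
    obtain ⟨w, hw, hw'⟩ := hdiv ((a x)⁻¹ : V) ((a x)⁻¹ : V).2
    exact ⟨⟨w, hw⟩, Subtype.ext hw'⟩
  choose b hb using hb
  have hf' : ∀ x y, (b x * s x) * (b y * s y) * (b (x * y) * s (x * y))⁻¹ ∈ tor V hc n := by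
    intro x y
    have h1 : (b x * s x) * (b y * s y) * (b (x * y) * s (x * y))⁻¹ =
        ((b x * c x (b y) * f x y * (b (x * y))⁻¹ : V) : E) := by
      change _ = (b x : E) * (s x * b y * (s x)⁻¹) * (s x * s y * (s (x * y))⁻¹) * (b (x * y) : E)⁻¹
      group
    rw [h1]
    refine ⟨SetLike.coe_mem _, ?_⟩
    have h2 : (b x * c x (b y) * f x y * (b (x * y))⁻¹ : V) ^ n = 1 := by
      rw [mul_pow, mul_pow, mul_pow, inv_pow, ← map_pow, hb, hb, hb, inv_inv, map_inv]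
      have h3 := ha x y
      have h4 : f x y ^ n = c x (a y) * a x * (a (x * y))⁻¹ := by rw [← h3, mul_inv_cancel_right]
      rw [h4]
      group
    exact congrArg Subtype.val h2
  let Tn := tor V hc n
  have hTV : ∀ t ∈ Tn, t ∈ V := fun t ht => ht.1
  let s' : Q → E := fun x => b x * s x
  have hs' : ∀ x, π (s' x) = x := fun x => by
    change π (b x * s x) = x
    rw [map_mul, (hπ _).2 (b x).2, one_mul, hs]
  let φ : Q →* E ⧸ Tn := MonoidHom.mk' (fun x => QuotientGroup.mk' Tn (s' x)) (by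
    intro x y
    rw [← map_mul, QuotientGroup.mk'_apply, QuotientGroup.mk'_apply, QuotientGroup.eq]
    have h1 := hf' x y
    have h2 : (s' (x * y))⁻¹ * (s' x * s' y) = (s' (x * y))⁻¹ * (s' x * s' y * (s' (x * y))⁻¹) * ((s' (x * y))⁻¹)⁻¹ := by group
    rw [h2]
    exact (inferInstance : Tn.Normal).conj_mem _ h1 _)
  refine ⟨φ.range.comap (QuotientGroup.mk' Tn), fun e => ?_, fun g => ⟨?_, fun hg => ?_⟩⟩
  · refine ⟨s' (π e), ⟨π e, rfl⟩, (s' (π e))⁻¹ * e, ?_, by group⟩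
    rw [← hπ, map_mul, map_inv, hs', inv_mul_cancel]
  · rintro ⟨⟨x, hx⟩, hgV⟩
    have h1 : (s' x)⁻¹ * g ∈ Tn := QuotientGroup.eq.1 hx
    have h2 : x = 1 := by
      have h3 := (hπ _).2 (hTV _ h1)
      rw [map_mul, map_inv, hs', (hπ g).2 hgV, mul_one, inv_eq_one] at h3
      exact h3
    have h4 : s' 1 ∈ Tn := by
      have h5 := hf' 1 1
      have h6 : (b 1 * s 1) * (b 1 * s 1) * (b (1 * 1) * s (1 * 1))⁻¹ = s' 1 := by
        rw [mul_one]
        change s' 1 * s' 1 * (s' 1)⁻¹ = s' 1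
        group
      rwa [h6] at h5
    rw [h2] at h1
    have h7 : g = s' 1 * ((s' 1)⁻¹ * g) := by group
    rw [h7]
    exact Tn.mul_mem h4 h1
  · refine ⟨⟨1, ?_⟩, hg.1⟩
    rw [map_one]
    exact ((QuotientGroup.eq_one_iff g).2 hg).symm

theorem URoots.congr {G G' : Type*} [Group G] [Group G'] (e : G ≃* G') (h : URoots G) : URoots G' := by
  intro n hn
  have h1 : (fun x : G' => x ^ n) = e ∘ (fun x : G => x ^ n) ∘ e.symm := by
    ext x
    simp
  rw [h1]
  exact e.bijective.comp ((h n hn).comp e.symm.bijective)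

theorem Zs_mono (U : Subgroup E) {i j : ℕ} (h : i ≤ j) : Zs U i ≤ Zs U j :=
  Subgroup.map_mono (Subgroup.upperCentralSeries_mono U h)

/-- **Finite supplements of uniquely divisible nilpotent normal subgroups**. -/
theorem exists_sup_unip (U : Subgroup E) [U.Normal] [U.FiniteIndex] [Group.IsNilpotent U] (hr : URoots U) :
    ∃ S : Subgroup E, Finite S ∧ ∀ e : E, ∃ s ∈ S, ∃ u ∈ U, e = s * u := by
  have key : ∀ j : ℕ, (∃ F : Subgroup E, Zs U j ≤ F ∧ (∀ g ∈ F, g ∈ U → g ∈ Zs U j) ∧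
      ∀ e : E, ∃ s ∈ F, ∃ u ∈ U, e = s * u) →
      ∃ F : Subgroup E, Zs U 0 ≤ F ∧ (∀ g ∈ F, g ∈ U → g ∈ Zs U 0) ∧ ∀ e : E, ∃ s ∈ F, ∃ u ∈ U, e = s * u := by
    intro j
    induction j with
    | zero => exact id
    | succ j ih =>
      rintro ⟨F, hF1, hF2, hF3⟩
      apply ih
      let V' : Subgroup F := (Zs U j).subgroupOf F
      let V : Subgroup F := (Zs U (j + 1)).subgroupOf F
      let π : F →* F ⧸ V' := QuotientGroup.mk' V'
      have hπ : ∀ g, π g = 1 ↔ g ∈ V' := fun g => QuotientGroup.eq_one_iff g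
      have hVU : V = U.subgroupOf F := by
        ext g
        exact ⟨fun h => (mem_Zs.1 (show (g : E) ∈ Zs U (j + 1) from h)).1, fun h => hF2 g g.2 h⟩
      have hVfi : V.FiniteIndex := by
        rw [hVU]
        infer_instance
      have hV'V : V' ≤ V := fun g hg => Zs_mono U (Nat.le_succ j) hg
      let W : Subgroup (F ⧸ V') := V.map π
      have hWn : W.Normal := Subgroup.Normal.map inferInstance π (QuotientGroup.mk'_surjective V')
      have hWi : W.index = V.index := by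
        rw [Subgroup.index_map_eq V (QuotientGroup.mk'_surjective V') (by rwa [QuotientGroup.ker_mk'])]
      have hWfi : W.FiniteIndex := ⟨by rw [hWi]; exact hVfi.index_ne_zero⟩
      have hc : ∀ a ∈ W, ∀ b ∈ W, a * b = b * a := by
        rintro _ ⟨a, ha, rfl⟩ _ ⟨b, hb, rfl⟩
        rw [← mul_inv_eq_one, mul_inv_rev, ← mul_assoc, ← map_mul, ← map_inv, ← map_inv, ← map_mul, ← map_mul, hπ]
        obtain ⟨ha, ha'⟩ := mem_Zs.1 (show (a : E) ∈ Zs U (j + 1) from ha)
        obtain ⟨hb, hb'⟩ := mem_Zs.1 (show (b : E) ∈ Zs U (j + 1) from hb)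
        have h1 := (Subgroup.mem_upperCentralSeries_succ_iff.1 ha') ⟨b, hb⟩
        exact mem_Zs.2 ⟨U.mul_mem (U.mul_mem (U.mul_mem ha hb) (U.inv_mem ha)) (U.inv_mem hb), h1⟩
      have hdiv : ∀ v ∈ W, ∃ w ∈ W, w ^ W.index = v := by
        rintro _ ⟨a, ha, rfl⟩
        have hne : W.index ≠ 0 := hWfi.index_ne_zero
        obtain ⟨ha1, ha'⟩ := mem_Zs.1 (show (a : E) ∈ Zs U (j + 1) from ha)
        obtain ⟨⟨b, hb⟩, hb'⟩ := (hr _ hne).2 ⟨a, ha1⟩
        have hb'' : b ^ W.index = a := congrArg Subtype.val hb'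
        have h1 := root_mod hr (j + 1) 1 ⟨b, hb⟩ _ hne (by
          rw [one_pow, inv_one, one_mul]
          have : (⟨b, hb⟩ : U) ^ W.index = ⟨a, ha1⟩ := hb'
          rw [this]
          exact ha')
        rw [inv_one, one_mul] at h1
        have hbZ : b ∈ Zs U (j + 1) := mem_Zs.2 ⟨hb, h1⟩
        refine ⟨π ⟨b, hF1 hbZ⟩, ⟨⟨b, hF1 hbZ⟩, hbZ, rfl⟩, ?_⟩
        rw [← map_pow]
        congr 1
        exact Subtype.ext hb''
      obtain ⟨S, hS1, hS2⟩ := exists_sup W hc hdiv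
      refine ⟨(S.comap π).map F.subtype, ?_, ?_, ?_⟩
      · intro z hz
        have hzF : z ∈ F := hF1 (Zs_mono U (Nat.le_succ j) hz)
        refine ⟨⟨z, hzF⟩, ?_, rfl⟩
        have h1 : π ⟨z, hzF⟩ = 1 := (hπ _).2 hz
        change π ⟨z, hzF⟩ ∈ S
        rw [h1]
        exact S.one_mem
      · rintro _ ⟨⟨g, hg⟩, hgS, rfl⟩ hgU
        have h1 : π ⟨g, hg⟩ ∈ W := ⟨⟨g, hg⟩, hF2 g hg hgU, rfl⟩
        have h2 := ((hS2 _).1 ⟨hgS, h1⟩).2
        rw [← map_pow, hπ] at h2
        have h3 : g ^ W.index ∈ Zs U j := h2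
        obtain ⟨h4, h5⟩ := mem_Zs.1 h3
        refine mem_Zs.2 ⟨hgU, ?_⟩
        have h6 := root_mod hr j 1 ⟨g, hgU⟩ _ hWfi.index_ne_zero (by
          rw [one_pow, inv_one, one_mul]
          exact h5)
        rwa [inv_one, one_mul] at h6
      · intro e
        obtain ⟨s, hs, u, hu, rfl⟩ := hF3 e
        obtain ⟨t, ht, v, ⟨v, hv, rfl⟩, htv⟩ := hS1 (π ⟨s, hs⟩)
        refine ⟨s * (v : E)⁻¹, ⟨⟨s, hs⟩ * v⁻¹, ?_, rfl⟩, v * u, U.mul_mem (mem_Zs.1 (show (v : E) ∈ Zs U (j + 1) from hv)).1 hu,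
          by group⟩
        change π (⟨s, hs⟩ * v⁻¹) ∈ S
        rw [map_mul, map_inv, htv, mul_inv_cancel_right]
        exact ht
  obtain ⟨n, hn⟩ := Group.IsNilpotent.nilpotent U
  obtain ⟨F, -, hF2, hF3⟩ := key n ⟨⊤, le_top, fun g _ hg => mem_Zs.2 ⟨hg, by rw [hn]; trivial⟩,
    fun e => ⟨e, trivial, 1, U.one_mem, (mul_one e).symm⟩⟩
  refine ⟨F, ?_, hF3⟩
  have hinj : Function.Injective ((QuotientGroup.mk' U).comp F.subtype) := by
    rw [injective_iff_map_eq_one]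
    intro g hg
    have h1 : (g : E) ∈ U := (QuotientGroup.eq_one_iff (g : E)).1 hg
    obtain ⟨h2, h3⟩ := mem_Zs.1 (hF2 g g.2 h1)
    rw [Subgroup.upperCentralSeries_zero, mem_bot] at h3
    have h4 : (g : E) = 1 := congrArg Subtype.val h3
    exact Subtype.ext h4
  have : Finite (E ⧸ U) := inferInstance
  exact Finite.of_injective _ hinj

/-- **Finite supplements**. -/
theorem exists_sup_main (T U : Subgroup E) [T.Normal] [U.Normal] (hc : ∀ a ∈ T, ∀ b ∈ T, a * b = b * a)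
    (hdiv : ∀ n : ℕ, n ≠ 0 → ∀ v ∈ T, ∃ w ∈ T, w ^ n = v) (htor : ∀ n : ℕ, n ≠ 0 → {v | v ∈ T ∧ v ^ n = 1}.Finite)
    [Group.IsNilpotent U] (hr : URoots U) (hTU : ∀ v ∈ T, v ∈ U → v = 1)
    (R : Finset E) (hR : ∀ e : E, ∃ r ∈ R, ∃ t ∈ T, ∃ u ∈ U, e = r * t * u) :
    ∃ S : Subgroup E, Finite S ∧ ∀ e : E, ∃ s ∈ S, ∃ t ∈ T, ∃ u ∈ U, e = s * t * u := by
  let π : E →* E ⧸ T := QuotientGroup.mk' T
  have hπ : ∀ g, π g = 1 ↔ g ∈ T := fun g => QuotientGroup.eq_one_iff g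
  have hπs : Function.Surjective π := QuotientGroup.mk'_surjective T
  let W : Subgroup (E ⧸ T) := U.map π
  have hWn : W.Normal := Subgroup.Normal.map inferInstance π hπs
  let ψ : U →* W := π.subgroupMap U
  have hψ : Function.Bijective ψ := by
    refine ⟨?_, π.subgroupMap_surjective U⟩
    rw [injective_iff_map_eq_one]
    intro u hu
    have h1 : π u = 1 := congrArg Subtype.val hu
    exact Subtype.ext (hTU u ((hπ _).1 h1) u.2)
  let e : U ≃* W := MulEquiv.ofBijective ψ hψ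
  have hWr : URoots W := URoots.congr e hr
  have hWnil : Group.IsNilpotent W := (Group.isNilpotent_congr e).1 inferInstance
  have hWfin : Finite ((E ⧸ T) ⧸ W) := by
    let F : R → (E ⧸ T) ⧸ W := fun r => QuotientGroup.mk' W (π r)
    refine Finite.of_surjective F fun q => ?_
    obtain ⟨q, rfl⟩ := QuotientGroup.mk'_surjective W q
    obtain ⟨e, rfl⟩ := hπs q
    obtain ⟨r, hr, t, ht, u, hu, rfl⟩ := hR e
    refine ⟨⟨r, hr⟩, ?_⟩
    change (QuotientGroup.mk (π r) : (E ⧸ T) ⧸ W) = QuotientGroup.mk (π (r * t * u))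
    rw [QuotientGroup.eq, map_mul, map_mul, (hπ t).2 ht, mul_one,
      inv_mul_cancel_left]
    exact ⟨u, hu, rfl⟩
  have hWfi : W.FiniteIndex := Subgroup.finiteIndex_of_finite_quotient
  obtain ⟨S₁, hS₁, hS₁'⟩ := exists_sup_unip W hWr
  let F : Subgroup E := S₁.comap π
  have hTF : T ≤ F := fun t ht => by
    change π t ∈ S₁
    rw [(hπ t).2 ht]
    exact S₁.one_mem
  let V : Subgroup F := T.subgroupOf F
  have hVfi : V.FiniteIndex := by
    have hfin : Finite (F ⧸ V) := by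
      let G : F ⧸ V → S₁ := QuotientGroup.lift V ((π.comp F.subtype).codRestrict S₁ fun g => g.2) (fun g hg =>
        Subtype.ext ((hπ _).2 hg))
      refine Finite.of_injective G ?_
      intro a b hab
      obtain ⟨a, rfl⟩ := QuotientGroup.mk'_surjective V a
      obtain ⟨b, rfl⟩ := QuotientGroup.mk'_surjective V b
      have h1 : π a = π b := congrArg Subtype.val hab
      rw [QuotientGroup.mk'_apply, QuotientGroup.mk'_apply, QuotientGroup.eq]
      change (a : E)⁻¹ * (b : E) ∈ T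
      rw [← hπ, map_mul, map_inv, h1, inv_mul_cancel]
    exact Subgroup.finiteIndex_of_finite_quotient
  obtain ⟨S, hS1, hS2⟩ := exists_sup V (fun a ha b hb => Subtype.ext (hc a ha b hb)) (fun v hv => by
    obtain ⟨w, hw, hw'⟩ := hdiv _ hVfi.index_ne_zero v hv
    exact ⟨⟨w, hTF hw⟩, hw, Subtype.ext hw'⟩)
  have hSfin : Finite S := by
    have h1 : Finite (V.subgroupOf S) := by
      have h2 : {v | v ∈ T ∧ v ^ V.index = 1}.Finite := htor _ hVfi.index_ne_zero
      have := h2.to_subtype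
      let G : V.subgroupOf S → {v | v ∈ T ∧ v ^ V.index = 1} := fun s => ⟨s.1.1.1, by
        have h3 := (hS2 s.1.1).1 ⟨s.1.2, s.2⟩
        exact ⟨h3.1, congrArg Subtype.val h3.2⟩⟩
      refine Finite.of_injective G fun a b hab => ?_
      apply Subtype.ext
      apply Subtype.ext
      apply Subtype.ext
      exact congrArg (fun z : {v : E | v ∈ T ∧ v ^ V.index = 1} => (z : E)) hab
    have h2 : Finite (S ⧸ V.subgroupOf S) := inferInstance
    exact Finite.of_subgroup_quotient (V.subgroupOf S)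
  refine ⟨S.map F.subtype, Finite.of_surjective (F.subtype.subgroupMap S) (F.subtype.subgroupMap_surjective S), fun e => ?_⟩
  obtain ⟨s₁, hs₁, w, ⟨u, hu, rfl⟩, hsu⟩ := hS₁' (π e)
  have h1 : e * u⁻¹ ∈ F := by
    change π (e * u⁻¹) ∈ S₁
    rw [map_mul, map_inv, hsu, mul_inv_cancel_right]
    exact hs₁
  obtain ⟨s, hs, v, hv, hsv⟩ := hS1 ⟨e * u⁻¹, h1⟩
  refine ⟨s, ⟨s, hs, rfl⟩, v, hv, u, hu, ?_⟩
  have h2 : e * u⁻¹ = s * v := congrArg Subtype.val hsv
  rw [← h2, inv_mul_cancel_right]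

end K191.FinSup
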