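import Mathlib

/-!
# Averaging in torsors under groups with a Galois action

`N` a group, `X` a simply transitive `N`-set, `Γ` a family of compatible symmetries of `N` and `X`, `M` a stable subgroup and
`V' ≤ V` stable normal subgroups of `N` with `V / V'` abelian and divisible.

* `step`: if `γ x ∈ M V x` for all `γ`, and `x` lies in a finite stable set of cardinality `e`, there is `b ∈ V` with
  `γ (b x) ∈ M q (b x)`, `q ∈ V`, `q ^ e ∈ (M ∩ V) V'`.
-/

set_option autoImplicit false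

namespace K191.GrpStep

open Subgroup

variable {N X Γ : Type*} [Group N] [MulAction N X]

/-- Compatible symmetries of a group `N` and of a simply transitive `N`-set. -/
structure Sym (α : Γ → N ≃* N) (β : Γ → X → X) : Prop where
  trans : ∀ x y : X, ∃ n : N, n • x = y
  free : ∀ (n : N) (x : X), n • x = x → n = 1
  compat : ∀ γ (n : N) (x : X), β γ (n • x) = α γ n • β γ x

/-- stable subgroups -/
def Stab (α : Γ → N ≃* N) (V : Subgroup N) : Prop := ∀ γ v, α γ v ∈ V ↔ v ∈ V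

variable {α : Γ → N ≃* N} {β : Γ → X → X}

theorem Sym.free' (h : Sym α β) {n n' : N} {x : X} (e : n • x = n' • x) : n = n' := by
  have h1 : (n'⁻¹ * n) • x = x := by rw [mul_smul, e, inv_smul_smul]
  have := h.free _ _ h1
  rw [inv_mul_eq_one] at this
  exact this.symm

theorem Sym.injβ (h : Sym α β) (γ : Γ) : Function.Injective (β γ) := by
  intro x y e
  obtain ⟨n, rfl⟩ := h.trans x y
  rw [h.compat] at e
  have h1 := h.free _ _ e.symm
  have h2 : n = 1 := (α γ).injective (by rw [h1, map_one])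
  rw [h2, one_smul]

/-- a finite stable set -/
def FinSt (β : Γ → X → X) (O : Finset X) : Prop := ∀ γ, ∀ z ∈ O, β γ z ∈ O

theorem bijOn (h : Sym α β) {O : Finset X} (hO : FinSt β O) (γ : Γ) : Set.BijOn (β γ) O O := by
  have h1 : Set.MapsTo (β γ) O O := fun z hz => hO γ z hz
  refine ⟨h1, (h.injβ γ).injOn, ?_⟩
  exact Finset.surjOn_of_injOn_of_card_le (β γ) h1 (h.injβ γ).injOn le_rfl

theorem step (h : Sym α β) (M V V' : Subgroup N) [V.Normal] [V'.Normal]
    (hcomm : ∀ a ∈ V, ∀ b ∈ V, a * b * a⁻¹ * b⁻¹ ∈ V') (hM : Stab α M) (hV : Stab α V) (hV' : Stab α V')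
    (x : X) (O : Finset X) (hO : FinSt β O)
    (hdiv : ∀ a ∈ V, ∃ b ∈ V, b ^ O.card * a⁻¹ ∈ V') (hx : ∀ γ, ∃ m ∈ M, ∃ a ∈ V, β γ x = (m * a) • x)
    (hxO : ∀ z ∈ O, ∃ m ∈ M, ∃ a ∈ V, z = (m * a) • x) :
    ∃ b ∈ V, ∀ γ, ∃ m ∈ M, ∃ q ∈ V, β γ (b • x) = (m * q) • (b • x) ∧
      ∃ t ∈ M ⊓ V, q ^ O.card * t ∈ V' := by
  classical
  -- the quotient group
  let π : N →* N ⧸ V' := QuotientGroup.mk' V'
  have hπ : ∀ n, π n = 1 ↔ n ∈ V' := fun n => QuotientGroup.eq_one_iff n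
  let W : Subgroup (N ⧸ V') := V.map π
  let _ : CommGroup W := { (inferInstance : Group W) with
    mul_comm := by
      rintro ⟨_, a, ha, rfl⟩ ⟨_, b, hb, rfl⟩
      apply Subtype.ext
      change π a * π b = π b * π a
      have h1 := (hπ _).2 (hcomm a ha b hb)
      rw [map_mul, map_mul, map_mul, map_inv, map_inv, mul_inv_eq_one, mul_inv_eq_iff_eq_mul] at h1
      exact h1 }
  let ρ : V →* W := (π.subgroupMap V)
  have hρ : ∀ v : V, ρ v = 1 ↔ (v : N) ∈ V' := by
    intro v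
    rw [← hπ]
    exact Subtype.ext_iff
  choose! m hm a ha hma using hxO
  choose mg hmg ag hag hmag using hx
  let aV : X → V := fun z => if hz : z ∈ O then ⟨a z, ha z hz⟩ else 1
  have haV : ∀ z ∈ O, (aV z : N) = a z := fun z hz => by simp only [aV, dif_pos hz]
  let p : V := (O.toList.map aV).prod
  have hp : ρ p = ∏ z ∈ O, ρ (aV z) := by
    rw [← Finset.prod_map_toList O fun z => ρ (aV z), map_list_prod, List.map_map]
    rfl
  obtain ⟨b, hb, hbp⟩ := hdiv p p.2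
  refine ⟨b, hb, fun γ => ?_⟩
  -- the twisted action
  let ψ : V →* V :=
    { toFun := fun v => ⟨(mg γ)⁻¹ * α γ v * mg γ, by
        have h1 := ‹V.Normal›.conj_mem _ ((hV γ v).2 v.2) (mg γ)⁻¹
        rwa [inv_inv] at h1⟩
      map_one' := Subtype.ext (by simp)
      map_mul' := fun v w => Subtype.ext (by
        change (mg γ)⁻¹ * α γ (v * w) * mg γ = ((mg γ)⁻¹ * α γ v * mg γ) * ((mg γ)⁻¹ * α γ w * mg γ)
        rw [map_mul]
        group) }
  have hψ : ∀ v : V, (v : N) ∈ V' → ρ (ψ v) = 1 := by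
    intro v hv
    rw [hρ]
    have h1 := ‹V'.Normal›.conj_mem _ ((hV' γ v).2 hv) (mg γ)⁻¹
    rwa [inv_inv] at h1
  -- the defects
  have key : ∀ z ∈ O, ∃ t : V, (t : N) ∈ M ∧ aV (β γ z) = t * ψ (aV z) * ⟨ag γ, hag γ⟩ := by
    intro z hz
    have h1 : β γ z = (α γ (m z) * α γ (a z) * (mg γ * ag γ)) • x := by
      rw [mul_smul, ← hmag γ, ← map_mul, ← h.compat, ← hma z hz]
    have h2 : m (β γ z) * a (β γ z) = α γ (m z) * α γ (a z) * (mg γ * ag γ) := by
      apply h.free' (x := x)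
      rw [← hma _ (hO γ z hz), h1]
    let t : V := aV (β γ z) * (ψ (aV z) * ⟨ag γ, hag γ⟩)⁻¹
    have ht : (t : N) = (m (β γ z))⁻¹ * α γ (m z) * mg γ := by
      change (aV (β γ z) : N) * (((mg γ)⁻¹ * α γ (aV z) * mg γ) * ag γ)⁻¹ = _
      rw [haV _ (hO γ z hz), haV z hz, mul_inv_eq_iff_eq_mul]
      have h3 : a (β γ z) = (m (β γ z))⁻¹ * (m (β γ z) * a (β γ z)) := by group
      rw [h3, h2]
      group
    refine ⟨t, ?_, ?_⟩
    · rw [ht]
      exact M.mul_mem (M.mul_mem (M.inv_mem (hm _ (hO γ z hz))) ((hM γ _).2 (hm z hz))) (hmg γ)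
    · change _ = aV (β γ z) * (ψ (aV z) * ⟨ag γ, hag γ⟩)⁻¹ * ψ (aV z) * ⟨ag γ, hag γ⟩
      group
  choose! t htM ht using key
  let q : V := ψ ⟨b, hb⟩ * ⟨ag γ, hag γ⟩ * (⟨b, hb⟩ : V)⁻¹
  refine ⟨mg γ, hmg γ, q, q.2, ?_, ?_⟩
  · rw [h.compat, hmag γ, ← mul_smul, ← mul_smul]
    congr 1
    change _ = mg γ * (((mg γ)⁻¹ * α γ b * mg γ) * ag γ * b⁻¹) * b
    group
  · let T : V := (O.toList.map t).prod
    have hTM : (T : N) ∈ M := by
      have h1 : (T : N) = ((O.toList.map t).map (V.subtype)).prod := by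
        rw [← map_list_prod]
        rfl
      rw [h1]
      refine M.list_prod_mem ?_
      intro y hy
      rw [List.mem_map] at hy
      obtain ⟨w, hw, rfl⟩ := hy
      rw [List.mem_map] at hw
      obtain ⟨z, hz, rfl⟩ := hw
      exact htM z (Finset.mem_toList.1 hz)
    have hT : ρ T = ∏ z ∈ O, ρ (t z) := by
      rw [← Finset.prod_map_toList O fun z => ρ (t z), map_list_prod, List.map_map]
      rfl
    have hψp : ρ (ψ p) = ∏ z ∈ O, ρ (ψ (aV z)) := by
      rw [← Finset.prod_map_toList O fun z => ρ (ψ (aV z)), map_list_prod, map_list_prod, List.map_map, List.map_map]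
      rfl
    have hperm : ∏ z ∈ O, ρ (aV (β γ z)) = ∏ z ∈ O, ρ (aV z) := by
      refine Finset.prod_nbij (β γ) (fun z hz => hO γ z hz) ?_ ?_ fun z _ => rfl
      · exact (bijOn h hO γ).injOn
      · exact (bijOn h hO γ).surjOn
    have h1 : ρ p = ρ T * ρ (ψ p) * ρ ⟨ag γ, hag γ⟩ ^ O.card := by
      rw [hp, ← hperm, hT, hψp, ← Finset.prod_const, ← Finset.prod_mul_distrib, ← Finset.prod_mul_distrib]
      refine Finset.prod_congr rfl fun z hz => ?_
      rw [ht z hz, map_mul, map_mul]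
    have h2 : ρ (⟨b, hb⟩ : V) ^ O.card = ρ p := by
      rw [← map_pow, ← mul_inv_eq_one, ← map_inv, ← map_mul, hρ]
      exact hbp
    have h3 : ρ (ψ (⟨b, hb⟩ : V)) ^ O.card = ρ (ψ p) := by
      rw [← map_pow, ← map_pow, ← mul_inv_eq_one, ← map_inv, ← map_inv, ← map_mul, ← map_mul]
      exact hψ _ hbp
    refine ⟨T, ⟨hTM, T.2⟩, ?_⟩
    have h4 : ρ (q ^ O.card * T) = 1 := by
      have h5 : ρ q = ρ (ψ ⟨b, hb⟩) * ρ ⟨ag γ, hag γ⟩ * (ρ ⟨b, hb⟩)⁻¹ := by
        simp only [q, map_mul, map_inv]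
      rw [map_mul, map_pow, h5, mul_pow, mul_pow, inv_pow, h3, h2, h1]
      group
    exact (hρ _).1 h4

/-- the part of a finite stable set in `M V x` -/
theorem exists_fin (h : Sym α β) {M V : Subgroup N} [V.Normal] (hM : Stab α M) (hV : Stab α V) {x : X}
    (hx : ∀ γ, ∃ m ∈ M, ∃ a ∈ V, β γ x = (m * a) • x) (hfin : ∃ O : Finset X, x ∈ O ∧ FinSt β O) :
    ∃ O : Finset X, x ∈ O ∧ FinSt β O ∧ ∀ z ∈ O, ∃ m ∈ M, ∃ a ∈ V, z = (m * a) • x := by
  classical
  obtain ⟨O, hxO, hO⟩ := hfin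
  refine ⟨O.filter fun z => ∃ m ∈ M, ∃ a ∈ V, z = (m * a) • x, ?_, ?_, fun z hz => (Finset.mem_filter.1 hz).2⟩
  · rw [Finset.mem_filter]
    exact ⟨hxO, 1, M.one_mem, 1, V.one_mem, by rw [_root_.mul_one, one_smul]⟩
  · intro γ z hz
    rw [Finset.mem_filter] at hz ⊢
    obtain ⟨hz, m, hm, a, ha, rfl⟩ := hz
    refine ⟨hO γ _ hz, ?_⟩
    obtain ⟨m', hm', a', ha', e⟩ := hx γ
    refine ⟨α γ m * m', M.mul_mem ((hM γ m).2 hm) hm', m'⁻¹ * α γ a * m' * a', ?_, ?_⟩
    · refine V.mul_mem ?_ ha'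
      have h1 := ‹V.Normal›.conj_mem _ ((hV γ a).2 ha) m'⁻¹
      rwa [inv_inv] at h1
    · rw [h.compat, e, ← mul_smul, map_mul]
      congr 1
      group

/-! ### Roots modulo the upper central series -/

section Roots

variable {G : Type*} [Group G]

/-- unique roots -/
def URoots (G : Type*) [Group G] : Prop := ∀ n : ℕ, n ≠ 0 → Function.Bijective fun x : G => x ^ n

theorem root_mod (hG : URoots G) (j : ℕ) : ∀ (x y : G) (m : ℕ), m ≠ 0 →
    (x ^ m)⁻¹ * y ^ m ∈ Subgroup.upperCentralSeries G j → x⁻¹ * y ∈ Subgroup.upperCentralSeries G j := by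
  induction j with
  | zero =>
    intro x y m hm h
    rw [Subgroup.upperCentralSeries_zero, mem_bot, inv_mul_eq_one] at h ⊢
    exact (hG m hm).1 h
  | succ j ih =>
    intro x y m hm h
    let Q := G ⧸ Subgroup.upperCentralSeries G j
    let π : G →* Q := QuotientGroup.mk' _
    have hQ : ∀ (a b : Q), a ^ m = b ^ m → a = b := by
      intro a b e
      obtain ⟨a, rfl⟩ := QuotientGroup.mk'_surjective _ a
      obtain ⟨b, rfl⟩ := QuotientGroup.mk'_surjective _ b
      rw [← map_pow, ← map_pow] at e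
      exact (QuotientGroup.eq.2 (ih a b m hm (QuotientGroup.eq.1 e)))
    have hc : ∀ g : G, g ∈ Subgroup.upperCentralSeries G (j + 1) ↔ ∀ w : Q, π g * w = w * π g := by
      intro g
      rw [Subgroup.mem_upperCentralSeries_succ_iff]
      constructor
      · intro h1 w
        obtain ⟨w, rfl⟩ := QuotientGroup.mk'_surjective _ w
        have h2 : π (g * w * g⁻¹ * w⁻¹) = 1 := (QuotientGroup.eq_one_iff _).2 (h1 w)
        rw [map_mul, map_mul, map_mul, map_inv, map_inv, mul_inv_eq_one,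
          mul_inv_eq_iff_eq_mul] at h2
        exact h2
      · intro h1 w
        have h2 := h1 (π w)
        rw [← QuotientGroup.eq_one_iff]
        change π (g * w * g⁻¹ * w⁻¹) = 1
        rw [map_mul, map_mul, map_mul, map_inv, map_inv, mul_inv_eq_one,
          mul_inv_eq_iff_eq_mul]
        exact h2
    obtain ⟨w, hw⟩ := (hG m hm).2 ((x ^ m)⁻¹ * y ^ m)
    have hw' : w ^ m = (x ^ m)⁻¹ * y ^ m := hw
    have hwc : ∀ v : Q, π w * v = v * π w := by
      intro v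
      have h1 : (v⁻¹ * π w * v) ^ m = π w ^ m := by
        rw [show v⁻¹ * π w * v = v⁻¹ * π w * (v⁻¹)⁻¹ by rw [inv_inv], conj_pow, inv_inv, ← map_pow, hw', _root_.mul_assoc,
          (hc _).1 h v]
        group
      have h2 := hQ _ _ h1
      rw [_root_.mul_assoc, inv_mul_eq_iff_eq_mul] at h2
      exact h2
    rw [hc]
    have h3 : π y = π x * π w := by
      apply hQ
      have h4 : Commute (π x) (π w) := (hwc (π x)).symm
      rw [h4.mul_pow, ← map_pow, ← map_pow, ← map_pow, hw', ← map_mul]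
      congr 1
      group
    have h5 : π (x⁻¹ * y) = π w := by
      rw [map_mul, h3, map_inv]
      group
    rw [h5]
    exact hwc

end Roots

/-- The subgroups of the upper central series of a normal subgroup. -/
def Zs (U : Subgroup N) (j : ℕ) : Subgroup N := (Subgroup.upperCentralSeries U j).map U.subtype

theorem mem_Zs {U : Subgroup N} {j : ℕ} {v : N} : v ∈ Zs U j ↔ ∃ h : v ∈ U, (⟨v, h⟩ : U) ∈ Subgroup.upperCentralSeries U j := by
  constructor
  · rintro ⟨⟨w, hw⟩, hw', rfl⟩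
    exact ⟨hw, hw'⟩
  · rintro ⟨h, h'⟩
    exact ⟨⟨v, h⟩, h', rfl⟩

instance (U : Subgroup N) [U.Normal] (j : ℕ) : (Zs U j).Normal := by
  unfold Zs
  infer_instance

theorem stab_Zs {U : Subgroup N} (hU : Stab α U) (j : ℕ) : Stab α (Zs U j) := by
  intro γ v
  let e : U ≃* U :=
    { toFun := fun u => ⟨α γ u, (hU γ u).2 u.2⟩
      invFun := fun u => ⟨(α γ).symm u, (hU γ _).1 (by rw [MulEquiv.apply_symm_apply]; exact u.2)⟩
      left_inv := fun u => Subtype.ext ((α γ).symm_apply_apply _)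
      right_inv := fun u => Subtype.ext ((α γ).apply_symm_apply _)
      map_mul' := fun u v => Subtype.ext (map_mul (α γ) _ _) }
  rw [mem_Zs, mem_Zs]
  constructor
  · rintro ⟨h1, h2⟩
    have h3 := (hU γ v).1 h1
    refine ⟨h3, ?_⟩
    rw [← Subgroup.comap_upperCentralSeries e j, mem_comap]
    exact h2
  · rintro ⟨h1, h2⟩
    refine ⟨(hU γ v).2 h1, ?_⟩
    rw [← Subgroup.comap_upperCentralSeries e j, mem_comap] at h2
    exact h2

/-- **Reduction modulo a uniquely divisible nilpotent normal subgroup**. -/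
theorem unip (h : Sym α β) (M U : Subgroup N) [U.Normal] [Group.IsNilpotent U] (hroots : URoots U) (hM : Stab α M)
    (hU : Stab α U) (hMU : ∀ v ∈ M, v ∈ U → v = 1) (hfin : ∀ x : X, ∃ O : Finset X, x ∈ O ∧ FinSt β O) (x : X)
    (hx : ∀ γ, ∃ m ∈ M, ∃ a ∈ U, β γ x = (m * a) • x) :
    ∃ u ∈ U, ∀ γ, ∃ m ∈ M, β γ (u • x) = m • (u • x) := by
  have key : ∀ j : ℕ, (∃ u ∈ U, ∀ γ, ∃ m ∈ M, ∃ a ∈ Zs U j, β γ (u • x) = (m * a) • (u • x)) →
      ∃ u ∈ U, ∀ γ, ∃ m ∈ M, ∃ a ∈ Zs U 0, β γ (u • x) = (m * a) • (u • x) := by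
    intro j
    induction j with
    | zero => exact id
    | succ j ih =>
      rintro ⟨u, hu, hux⟩
      apply ih
      obtain ⟨O, hxO, hO, hOM⟩ := exists_fin h hM (stab_Zs hU (j + 1)) hux (hfin (u • x))
      have hcard : O.card ≠ 0 := Finset.card_ne_zero_of_mem hxO
      obtain ⟨b, hb, hbγ⟩ := step h M (Zs U (j + 1)) (Zs U j) (by
          intro a ha b hb
          obtain ⟨ha, ha'⟩ := mem_Zs.1 ha
          obtain ⟨hb, hb'⟩ := mem_Zs.1 hb
          have h1 := (Subgroup.mem_upperCentralSeries_succ_iff.1 ha') ⟨b, hb⟩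
          exact mem_Zs.2 ⟨U.mul_mem (U.mul_mem (U.mul_mem ha hb) (U.inv_mem ha)) (U.inv_mem hb), h1⟩)
        hM (stab_Zs hU (j + 1)) (stab_Zs hU j) (u • x) O hO (by
          intro a ha
          obtain ⟨ha, ha'⟩ := mem_Zs.1 ha
          obtain ⟨⟨b, hb⟩, hb'⟩ := (hroots _ hcard).2 ⟨a, ha⟩
          have hb'' : b ^ O.card = a := congrArg Subtype.val hb'
          refine ⟨b, mem_Zs.2 ⟨hb, ?_⟩, ?_⟩
          · have h1 := root_mod hroots (j + 1) 1 ⟨b, hb⟩ _ hcard (by
              rw [_root_.one_pow, inv_one, _root_.one_mul]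
              have : (⟨b, hb⟩ : U) ^ O.card = ⟨a, ha⟩ := hb'
              rw [this]
              exact ha')
            rwa [inv_one, _root_.one_mul] at h1
          · rw [hb'', mul_inv_cancel]
            exact (Zs U j).one_mem) hux hOM
      have hbU : b ∈ U := (mem_Zs.1 hb).1
      refine ⟨b * u, U.mul_mem hbU hu, fun γ => ?_⟩
      obtain ⟨m, hm, q, hq, e, t, ht, ht'⟩ := hbγ γ
      refine ⟨m, hm, q, ?_, ?_⟩
      · have ht1 : t = 1 := hMU t ht.1 (mem_Zs.1 ht.2).1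
        rw [ht1, _root_.mul_one] at ht'
        obtain ⟨hq1, -⟩ := mem_Zs.1 hq
        obtain ⟨h1, h2⟩ := mem_Zs.1 ht'
        refine mem_Zs.2 ⟨hq1, ?_⟩
        have h3 := root_mod hroots j 1 ⟨q, hq1⟩ _ hcard (by
          rw [_root_.one_pow, inv_one, _root_.one_mul]
          exact h2)
        rwa [inv_one, _root_.one_mul] at h3
      · rw [mul_smul b u]
        exact e
  obtain ⟨n, hn⟩ := Group.IsNilpotent.nilpotent U
  obtain ⟨u, hu, hux⟩ := key n ⟨1, U.one_mem, fun γ => by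
    obtain ⟨m, hm, a, ha, e⟩ := hx γ
    refine ⟨m, hm, a, mem_Zs.2 ⟨ha, by rw [hn]; trivial⟩, ?_⟩
    rw [one_smul]
    exact e⟩
  refine ⟨u, hu, fun γ => ?_⟩
  obtain ⟨m, hm, a, ha, e⟩ := hux γ
  obtain ⟨h1, h2⟩ := mem_Zs.1 ha
  rw [Subgroup.upperCentralSeries_zero, mem_bot] at h2
  have h3 : a = 1 := congrArg Subtype.val h2
  rw [h3, _root_.mul_one] at e
  exact ⟨m, hm, e⟩

end K191.GrpStep
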