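import Groth.Agent.NonAbH1.K191.Reduce
import Groth.Agent.Agf.H612.GalSub
import Groth.Agent.PrincBund.K826.TorsField
import Groth.Agent.NonAbH1.K191.GrpStep

/-!
# Galois conjugates of geometric points of a torsor, and reduction of the structure group

`K` a perfect field, `L` an algebraic closure, `Ω = Spec L`, `gs σ : Ω ⟶ Ω`.

* `exists_h0`: a point of `G` over `Ω ⊗ Ω` is in the closed subgroup `H` if it is so at all the Galois points;
* `exists_finset`: the Galois orbits of the geometric points of a scheme of finite type are finite;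
* `exists_torsor`: if `x ∈ P(L)` and `σ x ∈ H(L) x` for all `σ` then `P` comes from an `H`-torsor.
-/

set_option autoImplicit false
universe u

open CategoryTheory CategoryTheory.Limits MonoidalCategory CartesianMonoidalCategory MonObj GrpObj AlgebraicGeometry
open Groth.Agent.Books.BorelOrb K554.Fpqc K554.FibAct TensorProduct

namespace K191.GalPt

variable (K L : Type u) [Field K] [Field L] [Algebra K L]

/-- `Spec L` over `Spec K`. -/
noncomputable def Om : Over (Spec (CommRingCat.of K)) := Over.mk (Spec.map (CommRingCat.ofHom (algebraMap K L)))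

variable {K L}

/-- The automorphism of `Spec L` defined by `σ`. -/
noncomputable def gs (σ : L ≃ₐ[K] L) : Om K L ⟶ Om K L :=
  Over.homMk (Spec.map (CommRingCat.ofHom (σ : L →+* L))) (by
    change Spec.map _ ≫ Spec.map _ = Spec.map _
    rw [← Spec.map_comp]
    congr 1
    ext x
    exact σ.commutes x)

@[simp] lemma gs_left (σ : L ≃ₐ[K] L) : (gs σ).left = Spec.map (CommRingCat.ofHom (σ : L →+* L)) := rfl

lemma gs_comp (σ τ : L ≃ₐ[K] L) : gs σ ≫ gs τ = gs (τ.trans σ) := by
  ext1
  exact (Spec.map_comp (CommRingCat.ofHom (τ : L →+* L)) (CommRingCat.ofHom (σ : L →+* L))).symm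

lemma gs_refl : gs (AlgEquiv.refl : L ≃ₐ[K] L) = 𝟙 _ := by
  ext1
  exact Spec.map_id _

/-- the automorphism of `Ω` defined by `σ` -/
noncomputable def gsIso (σ : L ≃ₐ[K] L) : Om K L ≅ Om K L where
  hom := gs σ
  inv := gs σ.symm
  hom_inv_id := by
    rw [gs_comp, ← gs_refl]
    congr 1
    ext x
    simp
  inv_hom_id := by
    rw [gs_comp, ← gs_refl]
    congr 1
    ext x
    simp

/-! ### The Galois points of `Ω ⊗ Ω` -/

/-- the homomorphism `a ⊗ b ↦ a σ(b)` -/
noncomputable def mu (σ : L ≃ₐ[K] L) : L ⊗[K] L →ₐ[K] L :=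
  Algebra.TensorProduct.lift (AlgHom.id K L) (σ : L →ₐ[K] L) (fun _ _ => Commute.all _ _)

@[simp] lemma mu_tmul (σ : L ≃ₐ[K] L) (a b : L) : mu σ (a ⊗ₜ b) = a * σ b := by simp [mu]

/-- The Galois points of `L ⊗ L` are dense. -/
theorem eq_zero_of_mu [PerfectField K] [IsAlgClosed L] [Algebra.IsAlgebraic K L] (w : L ⊗[K] L)
    (hw : ∀ σ : L ≃ₐ[K] L, mu σ w = 0) : w = 0 := by
  let W : Submodule L (L ⊗[K] L) :=
    { carrier := {w | ∀ σ : L ≃ₐ[K] L, mu σ w = 0}
      add_mem' := fun {a b} ha hb σ => by rw [map_add, ha σ, hb σ, add_zero]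
      zero_mem' := fun σ => map_zero _
      smul_mem' := fun c x hx σ => by
        have h1 : mu σ (c • x) = c * mu σ x := by
          rw [Algebra.smul_def, map_mul]
          congr 1
          change mu σ (c ⊗ₜ 1) = c
          rw [mu_tmul, map_one, _root_.mul_one]
        rw [h1, hx σ, mul_zero] }
  by_contra hne
  obtain ⟨v, hv, hvW⟩ := Groth.Agent.Agf.H612.GalSub.exists_one_tmul_mem
    (Groth.Agent.Agf.H612.GalSub.mem_range_of_fixed K L) W (by
      intro τ w hw σ
      have h1 : ∀ w : L ⊗[K] L, mu σ (Groth.Agent.Agf.H612.GalSub.act L τ w) = τ (mu (σ.trans τ.symm) w) := by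
        intro w
        induction w with
        | zero => simp
        | tmul a b => simp
        | add x y hx hy => rw [map_add, map_add, hx, hy, map_add, map_add]
      rw [h1, hw, map_zero]) (by
      intro h
      apply hne
      have : w ∈ W := hw
      rwa [h] at this)
  have h1 := hvW AlgEquiv.refl
  rw [mu_tmul, _root_.one_mul] at h1
  exact hv h1

theorem isIso_of_dense {Z : Scheme.{u}} {R : Type u} [CommRing R] (j : Z ⟶ Spec (CommRingCat.of R)) [IsClosedImmersion j]
    {I : Type*} {R' : I → Type u} [∀ i, CommRing (R' i)] (φ : ∀ i, R →+* R' i) (hφ : ∀ r, (∀ i, φ i r = 0) → r = 0)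
    (s : ∀ i, Spec (CommRingCat.of (R' i)) ⟶ Z) (hs : ∀ i, s i ≫ j = Spec.map (CommRingCat.ofHom (φ i))) : IsIso j := by
  apply IsClosedImmersion.isIso_of_injective_of_isAffine
  rw [injective_iff_map_eq_zero]
  intro r hr
  obtain ⟨r, rfl⟩ := (Scheme.ΓSpecIso (CommRingCat.of R)).symm.commRingCatIsoToRingEquiv.surjective r
  have h0 : r = 0 := by
    apply hφ
    intro i
    have h1 : ((s i ≫ j).appTop).hom ((Scheme.ΓSpecIso (CommRingCat.of R)).inv.hom r) = 0 := by
      rw [Scheme.Hom.comp_appTop]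
      change (s i).appTop.hom (j.appTop.hom _) = 0
      have hr' : j.appTop.hom ((Scheme.ΓSpecIso (CommRingCat.of R)).inv.hom r) = 0 := hr
      rw [hr', map_zero]
    rw [hs i] at h1
    have h2 := Scheme.ΓSpecIso_inv_naturality (CommRingCat.ofHom (φ i))
    have h3 := congrArg (fun f => f.hom r) h2
    change (Scheme.ΓSpecIso (CommRingCat.of (R' i))).inv.hom (φ i r) =
      (Spec.map (CommRingCat.ofHom (φ i))).appTop.hom ((Scheme.ΓSpecIso (CommRingCat.of R)).inv.hom r) at h3
    rw [h1] at h3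
    have h4 : Function.Injective (Scheme.ΓSpecIso (CommRingCat.of (R' i))).inv.hom :=
      (Scheme.ΓSpecIso (CommRingCat.of (R' i))).symm.commRingCatIsoToRingEquiv.injective
    exact h4 (h3.trans (map_zero _).symm)
  rw [h0, map_zero]

variable {G H P : Over (Spec (CommRingCat.of K))}

theorem exists_h0 [PerfectField K] [IsAlgClosed L] [Algebra.IsAlgebraic K L] (i : H ⟶ G) [IsClosedImmersion i.left]
    (d : Om K L ⊗ Om K L ⟶ G)
    (hd : ∀ σ : L ≃ₐ[K] L, ∃ h : Om K L ⟶ H, h ≫ i = lift (𝟙 _) (gs σ) ≫ d) : ∃ h : Om K L ⊗ Om K L ⟶ H, h ≫ i = d := by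
  let e := pullbackSpecIso K L L
  let f : Spec (CommRingCat.of L) ⟶ Spec (CommRingCat.of K) := Spec.map (CommRingCat.ofHom (algebraMap K L))
  -- the Galois points
  have hpt : ∀ σ : L ≃ₐ[K] L, ∀ l : Spec (CommRingCat.of L) ⟶ pullback f f, l ≫ pullback.fst f f = 𝟙 _ →
      l ≫ pullback.snd f f = Spec.map (CommRingCat.ofHom (σ : L →+* L)) → l ≫ e.hom =
      Spec.map (CommRingCat.ofHom (mu σ : L ⊗[K] L →+* L)) := by
    intro σ l hl1 hl2
    rw [← Iso.eq_comp_inv]
    apply pullback.hom_ext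
    · rw [hl1, Category.assoc, pullbackSpecIso_inv_fst, ← Spec.map_comp]
      have h1 : CommRingCat.ofHom (Algebra.TensorProduct.includeLeftRingHom : L →+* L ⊗[K] L) ≫
          CommRingCat.ofHom (mu σ : L ⊗[K] L →+* L) = 𝟙 _ := by
        ext x
        change mu σ (x ⊗ₜ 1) = x
        simp
      rw [h1, Spec.map_id]
    · rw [hl2, Category.assoc, pullbackSpecIso_inv_snd, ← Spec.map_comp]
      congr 1
      ext x
      change σ x = mu σ (1 ⊗ₜ x)
      simp
  have hpt' : ∀ σ : L ≃ₐ[K] L, (lift (𝟙 (Om K L)) (gs σ)).left ≫ e.hom =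
      Spec.map (CommRingCat.ofHom (mu σ : L ⊗[K] L →+* L)) := by
    intro σ
    refine hpt σ (lift (𝟙 (Om K L)) (gs σ)).left ?_ ?_
    · change (lift (𝟙 (Om K L)) (gs σ)).left ≫ (fst (Om K L) (Om K L)).left = _
      rw [← Over.comp_left, lift_fst]
      rfl
    · change (lift (𝟙 (Om K L)) (gs σ)).left ≫ (snd (Om K L) (Om K L)).left = _
      rw [← Over.comp_left, lift_snd]
      rfl
  let D : Spec (CommRingCat.of (L ⊗[K] L)) ⟶ G.left := e.inv ≫ d.left
  have hD : e.hom ≫ D = d.left := Iso.hom_inv_id_assoc e d.left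
  let Z := pullback D i.left
  let j : Z ⟶ Spec (CommRingCat.of (L ⊗[K] L)) := pullback.fst D i.left
  have hcond : j ≫ D = pullback.snd D i.left ≫ i.left := pullback.condition
  have hj : IsIso j := by
    choose h hh using hd
    refine isIso_of_dense (R' := fun _ : L ≃ₐ[K] L => L) j (fun σ => (mu σ : L ⊗[K] L →+* L))
      (fun r hr => eq_zero_of_mu r hr)
      (fun σ => pullback.lift (Spec.map (CommRingCat.ofHom (mu σ : L ⊗[K] L →+* L))) (h σ).left ?_)
      (fun σ => pullback.lift_fst _ _ _)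
    have h1 : Spec.map (CommRingCat.ofHom (mu σ : L ⊗[K] L →+* L)) ≫ D = (lift (𝟙 (Om K L)) (gs σ)).left ≫ d.left :=
      (congrArg (fun z => z ≫ D) (hpt' σ)).symm.trans ((Category.assoc _ _ _).trans
        (congrArg (fun z => (lift (𝟙 (Om K L)) (gs σ)).left ≫ z) hD))
    exact h1.trans (congrArg (fun z => z.left) (hh σ)).symm
  have hfin : (e.hom ≫ inv j ≫ pullback.snd D i.left) ≫ i.left = d.left := by
    rw [Category.assoc, Category.assoc, ← hcond, IsIso.inv_hom_id_assoc, hD]
  refine ⟨Over.homMk (e.hom ≫ inv j ≫ pullback.snd D i.left) ?_, ?_⟩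
  · rw [← Over.w i]
    have h1 := congrArg (fun z => z ≫ G.hom) hfin
    exact (Category.assoc _ _ _).symm.trans (h1.trans (Over.w d))
  · ext1
    exact hfin

/-! ### Finiteness of Galois orbits -/

theorem exists_finset [IsAffine P.left] [LocallyOfFiniteType P.hom] [Algebra.IsAlgebraic K L] (x : Om K L ⟶ P) :
    ∃ O : Finset (Om K L ⟶ P), x ∈ O ∧ ∀ (σ : L ≃ₐ[K] L), ∀ z ∈ O, gs σ ≫ z ∈ O := by
  classical
  -- the coordinate ring
  let e := P.left.isoSpec
  let C := Γ(P.left, ⊤)
  let q : Spec C ⟶ Spec (CommRingCat.of K) := e.inv ≫ P.hom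
  let φ : CommRingCat.of K ⟶ C := Spec.preimage q
  have hφ : Spec.map φ = q := Spec.map_preimage q
  let _ : Algebra K C := φ.hom.toAlgebra
  have hft : Algebra.FiniteType K C := by
    have h1 : LocallyOfFiniteType (Spec.map φ) := by rw [hφ]; infer_instance
    exact (HasRingHomProperty.Spec_iff (P := @LocallyOfFiniteType)).1 h1
  have key : ∀ z : Om K L ⟶ P, ∃ f : C →ₐ[K] L, z.left = Spec.map (CommRingCat.ofHom (f : C →+* L)) ≫ e.inv := by
    intro z
    obtain ⟨zl, hzl⟩ : ∃ zl : Spec (CommRingCat.of L) ⟶ P.left, zl = z.left := ⟨_, rfl⟩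
    have hzw : zl ≫ P.hom = Spec.map (CommRingCat.ofHom (algebraMap K L)) := by
      rw [hzl]
      exact Over.w z
    let g : C ⟶ CommRingCat.of L := Spec.preimage (zl ≫ e.hom)
    have hg : Spec.map g = zl ≫ e.hom := Spec.map_preimage _
    have h1 : φ ≫ g = CommRingCat.ofHom (algebraMap K L) := by
      apply Spec.map_injective
      rw [Spec.map_comp, hg, hφ, ← hzw]
      change (zl ≫ e.hom) ≫ e.inv ≫ P.hom = _
      rw [Category.assoc, Iso.hom_inv_id_assoc]
    refine ⟨{ g.hom with commutes' := fun c => congrArg (fun f => f.hom c) h1 }, ?_⟩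
    have h2 : Spec.map g ≫ e.inv = zl := by rw [hg, Category.assoc, Iso.hom_inv_id, Category.comp_id]
    exact (h2.trans hzl).symm
  choose F hF using key
  have hinj : Function.Injective F := by
    intro z w h
    ext1
    rw [hF z, hF w, h]
  have hgs : ∀ (σ : L ≃ₐ[K] L) (z : Om K L ⟶ P), F (gs σ ≫ z) = (σ : L →ₐ[K] L).comp (F z) := by
    intro σ z
    have h1 := hF (gs σ ≫ z)
    have h2 : (gs σ ≫ z).left = Spec.map (CommRingCat.ofHom ((σ : L →ₐ[K] L).comp (F z) : C →+* L)) ≫ e.inv := by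
      change Spec.map (CommRingCat.ofHom (σ : L →+* L)) ≫ z.left = _
      have h3 := congrArg (fun w => Spec.map (CommRingCat.ofHom (σ : L →+* L)) ≫ w) (hF z)
      refine h3.trans ?_
      change Spec.map (CommRingCat.ofHom (σ : L →+* L)) ≫ Spec.map (CommRingCat.ofHom (F z : C →+* L)) ≫ e.inv = _
      rw [← Category.assoc, ← Spec.map_comp]
      rfl
    have h5 : Spec.map (CommRingCat.ofHom (F (gs σ ≫ z) : C →+* L)) ≫ e.inv =
      Spec.map (CommRingCat.ofHom ((σ : L →ₐ[K] L).comp (F z) : C →+* L)) ≫ e.inv := h1.symm.trans h2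
    have h4 := Spec.map_injective ((cancel_mono e.inv).1 h5)
    ext c
    exact congrArg (fun f => f.hom c) h4
  -- points with a given kernel are finite in number
  let I : Ideal C := RingHom.ker (F x)
  have hI : I.IsPrime := RingHom.ker_isPrime _
  let ψ : (C ⧸ I) →ₐ[K] L := Ideal.Quotient.liftₐ I (F x) (fun a ha => ha)
  have hψ : Function.Injective ψ := by
    rw [injective_iff_map_eq_zero]
    intro a ha
    obtain ⟨a, rfl⟩ := Ideal.Quotient.mk_surjective a
    exact Ideal.Quotient.eq_zero_iff_mem.2 ha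
  have halg : Algebra.IsAlgebraic K (C ⧸ I) := Algebra.IsAlgebraic.of_injective ψ hψ
  have hfin : Module.Finite K (C ⧸ I) := by
    have h1 : Algebra.IsIntegral K (C ⧸ I) := Algebra.isAlgebraic_iff_isIntegral.1 halg
    exact Algebra.IsIntegral.finite
  have hdom : IsDomain (C ⧸ I) := inferInstance
  have hfinite : Finite ((C ⧸ I) →ₐ[K] L) := inferInstance
  have hset : {z : Om K L ⟶ P | RingHom.ker (F z) = I}.Finite := by
    let T : {z : Om K L ⟶ P | RingHom.ker (F z) = I} → ((C ⧸ I) →ₐ[K] L) := fun z =>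
      Ideal.Quotient.liftₐ I (F z.1) (fun a ha => by
        have h1 : RingHom.ker (F z.1) = I := z.2
        rw [← h1] at ha
        exact ha)
    have hT : Function.Injective T := by
      intro z w h
      apply Subtype.ext
      apply hinj
      ext c
      exact AlgHom.congr_fun h (Ideal.Quotient.mk I c)
    exact Set.finite_coe_iff.1 (Finite.of_injective T hT)
  refine ⟨hset.toFinset, by simp [I], ?_⟩
  intro σ z hz
  rw [Set.Finite.mem_toFinset, Set.mem_ofPred_eq] at hz ⊢
  rw [hgs, ← hz]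
  ext c
  rw [RingHom.mem_ker, RingHom.mem_ker]
  change σ (F z c) = 0 ↔ F z c = 0
  exact map_eq_zero_iff σ σ.injective

end K191.GalPt
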