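import Groth.Agent.NonAbH1.K191.GrpStep
import Groth.Agent.S13195
import Mathlib.FieldTheory.Galois.Infinite

/-!
# Hilbert 90 for split tori acting on sets with a Galois action
-/

set_option autoImplicit false
universe u v w

namespace K191.H90

open K191.GrpStep

variable {K L : Type u} [Field K] [Field L] [Algebra K L] [CharZero K] [IsAlgClosed L] [Algebra.IsAlgebraic K L]
  {N : Type v} {X : Type w} [Group N] [MulAction N X] {α : (L ≃ₐ[K] L) → N ≃* N} {β : (L ≃ₐ[K] L) → X → X}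

theorem main (h : Sym α β) (hβ : ∀ γ γ' x, β (γ * γ') x = β γ (β γ' x)) (hβ1 : ∀ x, β 1 x = x) {n : ℕ}
    (j : (Fin n → Lˣ) →* N) (hj : Function.Injective j)
    (hαj : ∀ (γ : L ≃ₐ[K] L) (u : Fin n → Lˣ), α γ (j u) = j (fun i => Units.map (γ : L →* L) (u i)))
    (x : X) (s : Finset L) (hs : ∀ γ : L ≃ₐ[K] L, (∀ z ∈ s, γ z = z) → β γ x = x) :
    ∃ t ∈ j.range, ∀ γ, (∃ t' ∈ j.range, β γ x = t' • x) → β γ (t • x) = t • x := by
  classical
  let Γ₁ : Subgroup (L ≃ₐ[K] L) :=
    { carrier := {γ | ∃ u, β γ x = j u • x}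
      one_mem' := ⟨1, by rw [hβ1, map_one, one_smul]⟩
      mul_mem' := by
        rintro γ γ' ⟨u, hu⟩ ⟨u', hu'⟩
        refine ⟨(fun i => Units.map (γ : L →* L) (u' i)) * u, ?_⟩
        rw [hβ, hu', h.compat, hαj, hu, ← mul_smul, ← map_mul]
      inv_mem' := by
        rintro γ ⟨u, hu⟩
        refine ⟨(fun i => Units.map ((γ⁻¹ : L ≃ₐ[K] L) : L →* L) (u i))⁻¹, ?_⟩
        have h1 : β γ⁻¹ (β γ x) = x := by rw [← hβ, inv_mul_cancel, hβ1]
        rw [hu, h.compat, hαj] at h1
        rw [map_inv, eq_inv_smul_iff, h1] }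
  have hmem : ∀ γ, γ ∈ Γ₁ ↔ ∃ u, β γ x = j u • x := fun γ => Iff.rfl
  -- openness
  have hsep0 : IsSepClosure K L := { sep_closed := inferInstance, separable := inferInstance }
  have hgal : IsGalois K L := IsSepClosure.isGalois
  let E : IntermediateField K L := IntermediateField.adjoin K (s : Set L)
  have hE : FiniteDimensional K E := IntermediateField.finiteDimensional_adjoin fun z _ =>
    Algebra.IsIntegral.isIntegral z
  have hEΓ : E.fixingSubgroup ≤ Γ₁ := by
    intro γ hγ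
    refine ⟨1, ?_⟩
    rw [map_one, one_smul]
    apply hs
    intro z hz
    exact (IntermediateField.mem_fixingSubgroup_iff _ _).1 hγ z (IntermediateField.subset_adjoin K _ hz)
  have hopen : IsOpen (Γ₁ : Set (L ≃ₐ[K] L)) := Subgroup.isOpen_mono hEΓ (IntermediateField.fixingSubgroup_isOpen E)
  have hclosed : IsClosed (Γ₁ : Set (L ≃ₐ[K] L)) := Subgroup.isClosed_of_isOpen _ hopen
  let K₁ : IntermediateField K L := IntermediateField.fixedField Γ₁
  have hK₁ : K₁.fixingSubgroup = Γ₁ := InfiniteGalois.fixingSubgroup_fixedField ⟨Γ₁, hclosed⟩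
  have hsep : IsSepClosure K₁ L := { sep_closed := inferInstance, separable := inferInstance }
  have hr : ∀ τ : L ≃ₐ[K₁] L, ∃ u, β (τ.restrictScalars K) x = j u • x := by
    intro τ
    rw [← hmem, ← hK₁, IntermediateField.mem_fixingSubgroup_iff]
    intro z hz
    exact τ.commutes ⟨z, hz⟩
  choose c hc using hr
  have hcoc : ∀ σ τ : L ≃ₐ[K₁] L, c (σ * τ) = c σ * fun i => σ • c τ i := by
    intro σ τ
    apply hj
    apply h.free' (x := x)
    rw [← hc, map_mul]
    have h1 : (σ * τ).restrictScalars K = σ.restrictScalars K * τ.restrictScalars K := rfl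
    have h2 : j (fun i => σ • c τ i) = α (σ.restrictScalars K) (j (c τ)) := by
      rw [hαj]
      rfl
    have h3 : j (c σ) * j (fun i => σ • c τ i) = j (fun i => σ • c τ i) * j (c σ) := by
      rw [← map_mul, ← map_mul, mul_comm]
    rw [h1, hβ, hc, h.compat, hc, h3, mul_smul, h2]
  have hlc : ∀ i, IsLocallyConstant fun τ => c τ i := by
    intro i
    rw [IsLocallyConstant.iff_exists_open]
    intro τ
    let E₁ : IntermediateField K₁ L := IntermediateField.adjoin K₁ (s : Set L)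
    have hE₁ : FiniteDimensional K₁ E₁ := IntermediateField.finiteDimensional_adjoin fun z _ =>
      Algebra.IsIntegral.isIntegral z
    refine ⟨(fun ρ => τ⁻¹ * ρ) ⁻¹' (E₁.fixingSubgroup : Set (L ≃ₐ[K₁] L)),
      (IntermediateField.fixingSubgroup_isOpen E₁).preimage (continuous_const_mul τ⁻¹), ?_, ?_⟩
    · change τ⁻¹ * τ ∈ E₁.fixingSubgroup
      rw [inv_mul_cancel]
      exact one_mem _
    · intro ρ hρ
      have h1 : c ρ = c τ := by
        apply hj
        apply h.free' (x := x)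
        rw [← hc, ← hc]
        have h2 : ρ.restrictScalars K = τ.restrictScalars K * (τ⁻¹ * ρ).restrictScalars K := by
          have h3 : ρ = τ * (τ⁻¹ * ρ) := by rw [mul_inv_cancel_left]
          conv_lhs => rw [h3]
          rfl
        rw [h2, hβ, hs _ fun z hz => (IntermediateField.mem_fixingSubgroup_iff _ _).1 hρ z
          (IntermediateField.subset_adjoin K₁ _ hz)]
      rw [h1]
  have hcob : ∀ i, ∃ b : Lˣ, ∀ σ : L ≃ₐ[K₁] L, c σ i = b⁻¹ * σ • b := fun i =>
    Groth.Agent.S13195.result K₁ L (fun τ => c τ i) (fun σ τ => congrFun (hcoc σ τ) i) (hlc i)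
  choose b hb using hcob
  refine ⟨j b⁻¹, ⟨b⁻¹, rfl⟩, ?_⟩
  rintro γ ⟨_, ⟨u, rfl⟩, hu⟩
  have h1 : γ ∈ K₁.fixingSubgroup := by
    rw [hK₁]
    exact ⟨u, hu⟩
  let τ : L ≃ₐ[K₁] L := IntermediateField.fixingSubgroupEquiv K₁ ⟨γ, h1⟩
  have hτ : τ.restrictScalars K = γ := by
    ext z
    rfl
  have h2 := hc τ
  rw [hτ] at h2
  rw [h.compat, hαj, h2, ← mul_smul, ← map_mul]
  congr 2
  funext i
  change Units.map (γ : L →* L) (b i)⁻¹ * c τ i = (b i)⁻¹
  rw [hb i τ, map_inv]
  have h3 : τ • b i = Units.map (γ : L →* L) (b i) := by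
    apply Units.ext
    rfl
  rw [h3, mul_comm (b i)⁻¹, inv_mul_cancel_left]

end K191.H90
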