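import Groth.Agent.NonAbH1.K191.RedTors
import Groth.Agent.NonAbH1.K191.CartPts
import Groth.Agent.AlgGrp.K398.Pts
import Groth.Agent.Sga3B.RG.BrDiag

/-!
# Points with values in extensions of an algebraically closed field

`k` algebraically closed, `A` a finitely generated commutative Hopf algebra, `V H = Spec (A / I(H))` for a subgroup `H` of `Pt k A`.
-/

set_option autoImplicit false
universe u

open CategoryTheory CategoryTheory.Limits MonoidalCategory CartesianMonoidalCategory MonObj GrpObj AlgebraicGeometry
open Groth.Agent Groth.Agent.Books.AffBridge Groth.Agent.Books.AffBridge2 Groth.Agent.Sga3B.RG Groth.Agent.Sga3B.RG.BrPts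
open K191.GalPt

namespace K191.LPts

section Lift

variable {k : Type u} [Field k]

theorem exists_lift_L {X Y : Over (Spec (CommRingCat.of k))} [LocallyOfFiniteType X.hom] (f : X ⟶ Y)
    [Surjective f.left] (L : Type u) [Field L] [Algebra k L] [IsAlgClosed L] (y : SpecOver k L ⟶ Y) :
    ∃ x : SpecOver k L ⟶ X, x ≫ f = y := by
  have hft : LocallyOfFiniteType f.left := by
    have h1 : LocallyOfFiniteType (f.left ≫ Y.hom) := by rw [Over.w]; infer_instance
    exact locallyOfFiniteType_of_comp f.left Y.hom
  let W : Over (Spec (CommRingCat.of L)) := Over.mk (pullback.fst y.left f.left)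
  have h1 : Surjective (pullback.fst y.left f.left) := inferInstance
  have hne : Nonempty W.left := by
    obtain ⟨w, -⟩ := h1.surj (IsLocalRing.closedPoint L)
    exact ⟨w⟩
  have h2 : LocallyOfFiniteType W.hom := inferInstanceAs (LocallyOfFiniteType (pullback.fst y.left f.left))
  obtain ⟨p⟩ := RedTors.exists_pt L W
  obtain ⟨q, hq⟩ : ∃ q : Spec (CommRingCat.of L) ⟶ pullback y.left f.left, q ≫ pullback.fst y.left f.left = 𝟙 _ := by
    refine ⟨p.left, (Over.w p).trans ?_⟩
    change Spec.map (CommRingCat.ofHom (algebraMap L L)) = 𝟙 _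
    rw [← Spec.map_id]
    congr 1
  have hf : (q ≫ pullback.snd y.left f.left) ≫ f.left = y.left := by
    rw [Category.assoc, ← pullback.condition]
    exact (Category.assoc _ _ _).symm.trans ((congrArg (fun z => z ≫ y.left) hq).trans (Category.id_comp _))
  refine ⟨Over.homMk (q ≫ pullback.snd y.left f.left) ?_, ?_⟩
  · rw [← Over.w f]
    exact (Category.assoc _ _ _).symm.trans ((congrArg (fun z => z ≫ Y.hom) hf).trans (Over.w y))
  · ext1
    exact hf

end Lift

variable {k : Type u} [Field k] [IsAlgClosed k]

section Fin

/-- Points of finite algebras over an algebraically closed field are constant. -/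
theorem exists_const {B : Type u} [CommRing B] [Algebra k B] [Module.Finite k B] (L : Type u) [Field L] [Algebra k L]
    (x : SpecOver k L ⟶ SpecOver k B) : ∃ p : SpecOver k k ⟶ SpecOver k B, specMap k (Algebra.ofId k L) ≫ p = x := by
  obtain ⟨g, rfl⟩ := (specEquiv k).surjective x
  have hinj : Function.Injective (algebraMap k L) := (algebraMap k L).injective
  have h1 : ∀ b, ∃ c : k, algebraMap k L c = g b := by
    intro b
    have h3 : IsIntegral k (g b) := (IsIntegral.of_finite k b).map g
    have h4 : (minpoly k (g b)).degree = 1 := IsAlgClosed.degree_eq_one_of_irreducible k (minpoly.irreducible h3)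
    exact minpoly.mem_range_of_degree_eq_one k (g b) h4
  choose c hc using h1
  let p : B →ₐ[k] k :=
    { toFun := c
      map_one' := hinj (by rw [hc, map_one, map_one])
      map_mul' := fun a b => hinj (by rw [hc, map_mul, map_mul, hc, hc])
      map_zero' := hinj (by rw [hc, map_zero, map_zero])
      map_add' := fun a b => hinj (by rw [hc, map_add, map_add, hc, hc])
      commutes' := fun r => hinj (by
        rw [hc, g.commutes]
        rfl) }
  refine ⟨specMap k p, ?_⟩
  rw [← specMap_comp]
  change _ = specMap k g
  congr 1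
  ext b
  exact hc b

end Fin

variable {A : Type u} [CommRing A] [HopfAlgebra k A]

/-- the closed subgroup scheme of a subgroup of points -/
noncomputable abbrev V (H : Subgroup (Pt k A)) : Over (Spec (CommRingCat.of k)) :=
  SpecOver k (A ⧸ vanIdeal (H : Set (Pt k A)))

noncomputable abbrev iV (H : Subgroup (Pt k A)) : V H ⟶ SpecOver k A := incl k (vanIdeal (H : Set (Pt k A)))

omit [IsAlgClosed k] in
theorem finite_quot (H : Subgroup (Pt k A)) [Finite H] : Module.Finite k (A ⧸ vanIdeal (H : Set (Pt k A))) := by
  let ev : A →ₗ[k] (H → k) :=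
    { toFun := fun a g => (g : Pt k A) a
      map_add' := fun a b => funext fun g => map_add (g : Pt k A).ofConv a b
      map_smul' := fun c a => funext fun g => map_smul (g : Pt k A).ofConv c a }
  have hker : ∀ a, ev a = 0 ↔ a ∈ vanIdeal (H : Set (Pt k A)) := by
    intro a
    constructor
    · intro h g hg
      exact congrFun h ⟨g, hg⟩
    · intro h
      funext g
      exact h g g.2
  let ev' : (A ⧸ vanIdeal (H : Set (Pt k A))) →ₗ[k] (H → k) :=
    Submodule.liftQ ((vanIdeal (H : Set (Pt k A))).restrictScalars k) ev (fun a ha => (hker a).2 ha)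
  have hinj : Function.Injective ev' := by
    rw [injective_iff_map_eq_zero]
    intro a ha
    obtain ⟨a, rfl⟩ := Ideal.Quotient.mk_surjective a
    exact Ideal.Quotient.eq_zero_iff_mem.2 ((hker a).1 ha)
  exact Module.Finite.of_injective ev' hinj

omit [IsAlgClosed k] in
theorem isFinite_V (H : Subgroup (Pt k A)) [Finite H] : IsFinite (V H).hom := by
  have h1 := finite_quot H
  change IsFinite (Spec.map (CommRingCat.ofHom (algebraMap k (A ⧸ vanIdeal (H : Set (Pt k A))))))
  rw [IsFinite.SpecMap_iff]
  exact RingHom.finite_algebraMap.2 h1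

omit [IsAlgClosed k] in
theorem isCl_singleton (g : Pt k A) : IsCl ({g} : Set (Pt k A)) := by
  intro h hh
  rw [Set.mem_singleton_iff]
  have h2 : ∀ (x : Pt k A) (a : A), x (a - algebraMap k A (g a)) = x a - g a := by
    intro x a
    have h3 : x (algebraMap k A (g a)) = g a := x.ofConv.commutes (g a)
    rw [show x (a - algebraMap k A (g a)) = x a - x (algebraMap k A (g a)) from map_sub x.ofConv _ _, h3]
  apply WithConv.ofConv_injective
  ext a
  have h1 := hh (a - algebraMap k A (g a)) (by
    rintro _ rfl
    rw [h2, sub_self])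
  rw [h2, sub_eq_zero] at h1
  exact h1

omit [IsAlgClosed k] in
theorem isCl_of_finite (H : Set (Pt k A)) (hH : H.Finite) : IsCl H := by
  induction H, hH using Set.Finite.induction_on with
  | empty => exact isCl_empty
  | insert _ _ ih =>
    rw [Set.insert_eq]
    exact IsCl.union (isCl_singleton _) ih

omit [IsAlgClosed k] in
theorem ptsSub_iV (H : Subgroup (Pt k A)) (hH : IsCl (H : Set (Pt k A))) : ptsSub (iV H) = H := by
  apply SetLike.coe_injective
  rw [ptsSub_incl, hH.eq]

end K191.LPts
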