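import Groth.Agent.NonAbH1.K191.Reduce

/-!
# Semidirect products and torsors: the injectivity part

`G = L ⋉ U` given on points by `g = l u`.  Two `L`-torsors mapping to the same `G`-torsor are isomorphic.
-/

set_option autoImplicit false
universe u

open CategoryTheory CategoryTheory.Limits MonoidalCategory CartesianMonoidalCategory MonObj GrpObj AlgebraicGeometry
open Groth.Agent.Books.BorelOrb K554.Fpqc K554.FibAct

namespace K191.LeviInj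

variable {S : Scheme.{u}}

/-- Descent of morphisms along a faithfully flat quasi-compact morphism. -/
theorem exists_desc_over {R R' Y : Over S} (f : R' ⟶ R) [Flat f.left] [Surjective f.left]
    [QuasiCompact f.left] (m : R' ⟶ Y) (hm : ∀ (T : Over S) (a b : T ⟶ R'), a ≫ f = b ≫ f → a ≫ m = b ≫ m) :
    ∃ t : R ⟶ Y, f ≫ t = m := by
  have hloc : NonAbH1.IsLocallyTrivialFor Scheme.fpqcPrecoverage (Over.mk f.left) :=
    ⟨Presieve.singleton f.left, Scheme.Hom.singleton_mem_fpqcPrecoverage f.left, by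
      rintro _ _ ⟨⟩
      exact ⟨𝟙 _, Category.id_comp _⟩⟩
  obtain ⟨t, ht⟩ := exists_desc Scheme.fpqcPrecoverage (X := Over.mk f.left) hloc m.left (by
    let W : Over S := Over.mk (pullback.fst f.left f.left ≫ R'.hom)
    let a : W ⟶ R' := Over.homMk (pullback.fst f.left f.left) rfl
    let b : W ⟶ R' := Over.homMk (pullback.snd f.left f.left) (by
      change pullback.snd f.left f.left ≫ R'.hom = pullback.fst f.left f.left ≫ R'.hom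
      rw [← Over.w f, pullback.condition_assoc])
    have h1 := hm W a b (by
      ext1
      exact pullback.condition)
    exact congrArg (fun z => z.left) h1)
  have ht' : f.left ≫ t = m.left := ht
  refine ⟨Over.homMk t ?_, ?_⟩
  · apply epi_of_isLocallyTrivialFor Scheme.fpqcPrecoverage hloc
    change f.left ≫ t ≫ Y.hom = f.left ≫ R.hom
    rw [reassoc_of% ht', Over.w, Over.w]
  · ext1
    exact ht'

theorem epi_over {R R' Y : Over S} (f : R' ⟶ R) [Flat f.left] [Surjective f.left]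
    [QuasiCompact f.left] {t t' : R ⟶ Y} (h : f ≫ t = f ≫ t') : t = t' := by
  have hloc : NonAbH1.IsLocallyTrivialFor Scheme.fpqcPrecoverage (Over.mk f.left) :=
    ⟨Presieve.singleton f.left, Scheme.Hom.singleton_mem_fpqcPrecoverage f.left, by
      rintro _ _ ⟨⟩
      exact ⟨𝟙 _, Category.id_comp _⟩⟩
  ext1
  apply epi_of_isLocallyTrivialFor Scheme.fpqcPrecoverage hloc
  exact congrArg (fun z => z.left) h

variable {G L U : Over S} [GrpObj G] [GrpObj L] [GrpObj U] {l : L ⟶ G} [IsMonHom l] {u : U ⟶ G} [IsMonHom u]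

/-- Decomposition on points. -/
structure Dec (l : L ⟶ G) (u : U ⟶ G) : Prop where
  ex : ∀ (T : Over S) (g : T ⟶ G), ∃ (h : T ⟶ L) (v : T ⟶ U), g = (h ≫ l) * (v ≫ u)
  uniq : ∀ (T : Over S) (h h' : T ⟶ L) (v v' : T ⟶ U), (h ≫ l) * (v ≫ u) = (h' ≫ l) * (v' ≫ u) → h = h' ∧ v = v'

theorem exists_proj (hd : Dec l u) (hn : AlgGrp.IsNormalHom u) :
    ∃ q : G ⟶ L, (∀ (T : Over S) (g g' : T ⟶ G), (g * g') ≫ q = (g ≫ q) * (g' ≫ q)) ∧
      (∀ (T : Over S) (h : T ⟶ L), (h ≫ l) ≫ q = h) ∧ (∀ (T : Over S) (v : T ⟶ U), (v ≫ u) ≫ q = 1) ∧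
      (∀ (T : Over S) (g : T ⟶ G), ∃ v : T ⟶ U, g = ((g ≫ q) ≫ l) * (v ≫ u)) := by
  obtain ⟨q, w, hqw⟩ := hd.ex G (𝟙 G)
  have h1 : ∀ (T : Over S) (g : T ⟶ G), g = ((g ≫ q) ≫ l) * ((g ≫ w) ≫ u) := by
    intro T g
    have h2 := congrArg (fun z => g ≫ z) hqw
    rw [Category.comp_id, MonObj.comp_mul] at h2
    rw [Category.assoc, Category.assoc]
    exact h2
  have h3 : ∀ (T : Over S) (h : T ⟶ L) (v : T ⟶ U), ((h ≫ l) * (v ≫ u)) ≫ q = h := by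
    intro T h v
    exact (hd.uniq T _ _ _ _ (h1 T ((h ≫ l) * (v ≫ u)))).1.symm
  refine ⟨q, ?_, ?_, ?_, fun T g => ⟨_, h1 T g⟩⟩
  · intro T g g'
    obtain ⟨h, v, rfl⟩ := hd.ex T g
    obtain ⟨h', v', rfl⟩ := hd.ex T g'
    obtain ⟨n, hn⟩ := hn T (h' ≫ l)⁻¹ v
    rw [h3, h3]
    have h4 : (h ≫ l) * (v ≫ u) * ((h' ≫ l) * (v' ≫ u)) = ((h * h') ≫ l) * ((n * v') ≫ u) := by
      rw [MonObj.mul_comp, MonObj.mul_comp, ← hn]
      group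
    rw [h4, h3]
  · intro T h
    have h4 := h3 T h 1
    rwa [MonObj.one_comp, _root_.mul_one] at h4
  · intro T v
    have h4 := h3 T 1 v
    rwa [MonObj.one_comp, _root_.one_mul] at h4

variable {P Q₁ Q₂ : Over S} {a : AlgGrp.Action G P} {a₁ : AlgGrp.Action L Q₁} {a₂ : AlgGrp.Action L Q₂}

theorem exists_equivariant (hd : Dec l u) (hn : AlgGrp.IsNormalHom u) (ha : NonAbH1.IsPseudoTorsorSch a)
    (ha₂ : NonAbH1.IsPseudoTorsorSch a₂) (f₁ : Q₁ ⟶ P) (f₂ : Q₂ ⟶ P)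
    (hf₁ : ∀ (T : Over S) (h : T ⟶ L) (y : T ⟶ Q₁), sm a₁ h y ≫ f₁ = sm a (h ≫ l) (y ≫ f₁))
    (hf₂ : ∀ (T : Over S) (h : T ⟶ L) (y : T ⟶ Q₂), sm a₂ h y ≫ f₂ = sm a (h ≫ l) (y ≫ f₂))
    [Flat Q₂.hom] [Surjective Q₂.hom] [QuasiCompact Q₂.hom] :
    ∃ φ : Q₁ ⟶ Q₂, ∀ (T : Over S) (h : T ⟶ L) (y : T ⟶ Q₁), sm a₁ h y ≫ φ = sm a₂ h (y ≫ φ) := by
  obtain ⟨q, hqm, hql, hqu, -⟩ := exists_proj hd hn
  have hq1 : ∀ (T : Over S), (1 : T ⟶ G) ≫ q = 1 := fun T => by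
    have := hql T 1
    rwa [MonObj.one_comp] at this
  have hqi : ∀ (T : Over S) (g : T ⟶ G), g⁻¹ ≫ q = (g ≫ q)⁻¹ := fun T g => by
    rw [eq_inv_iff_mul_eq_one, ← hqm, inv_mul_cancel, hq1]
  let m : Q₁ ⊗ Q₂ ⟶ Q₂ := sm a₂ ((dif ha (snd Q₁ Q₂ ≫ f₂) (fst Q₁ Q₂ ≫ f₁)) ≫ q)⁻¹ (snd Q₁ Q₂)
  have hm : ∀ (T : Over S) (y₁ : T ⟶ Q₁) (y₂ : T ⟶ Q₂),
      lift y₁ y₂ ≫ m = sm a₂ ((dif ha (y₂ ≫ f₂) (y₁ ≫ f₁)) ≫ q)⁻¹ y₂ := by
    intro T y₁ y₂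
    rw [comp_sm, GrpObj.comp_inv, ← Category.assoc, comp_dif, lift_snd, lift_fst_assoc, lift_snd_assoc]
  have hm2 : ∀ (T : Over S) (y₁ : T ⟶ Q₁) (y₂ y₂' : T ⟶ Q₂), lift y₁ y₂ ≫ m = lift y₁ y₂' ≫ m := by
    intro T y₁ y₂ y₂'
    obtain ⟨h, rfl⟩ : ∃ h : T ⟶ L, sm a₂ h y₂ = y₂' := ⟨_, sm_dif ha₂ y₂' y₂⟩
    rw [hm, hm, hf₂, dif_sm_left, hqm, hql, _root_.mul_inv_rev, mul_sm, ← mul_sm _ h⁻¹ h, inv_mul_cancel, one_sm]
  have hm3 : ∀ (T : Over S) (h : T ⟶ L) (y₁ : T ⟶ Q₁) (y₂ : T ⟶ Q₂),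
      lift (sm a₁ h y₁) y₂ ≫ m = sm a₂ h (lift y₁ y₂ ≫ m) := by
    intro T h y₁ y₂
    rw [hm, hm, hf₁, dif_sm_right, hqm, ← mul_sm, _root_.mul_inv_rev, hqi, _root_.inv_inv, hql]
  have hfst : ∀ A : Over S, Flat (fst A Q₂).left ∧ Surjective (fst A Q₂).left ∧ QuasiCompact (fst A Q₂).left := by
    intro A
    change Flat (pullback.fst A.hom Q₂.hom) ∧ Surjective (pullback.fst A.hom Q₂.hom) ∧
      QuasiCompact (pullback.fst A.hom Q₂.hom)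
    exact ⟨inferInstance, inferInstance, inferInstance⟩
  obtain ⟨i1, i2, i3⟩ := hfst Q₁
  obtain ⟨φ, hφ⟩ := exists_desc_over (fst Q₁ Q₂) m (by
    intro T b b' hb
    have e1 : b = lift (b ≫ fst _ _) (b ≫ snd _ _) := by rw [← comp_lift, lift_fst_snd, Category.comp_id]
    have e2 : b' = lift (b' ≫ fst _ _) (b' ≫ snd _ _) := by rw [← comp_lift, lift_fst_snd, Category.comp_id]
    rw [e1, e2, ← hb]
    exact hm2 T _ _ _)
  have hφ' : ∀ (T : Over S) (y₁ : T ⟶ Q₁) (y₂ : T ⟶ Q₂), y₁ ≫ φ = lift y₁ y₂ ≫ m := by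
    intro T y₁ y₂
    rw [← hφ, lift_fst_assoc]
  refine ⟨φ, fun T h y => ?_⟩
  obtain ⟨j1, j2, j3⟩ := hfst T
  apply epi_over (fst T Q₂)
  rw [← Category.assoc, comp_sm, comp_sm, ← Category.assoc (fst T Q₂) y φ, hφ' _ _ (snd T Q₂), hm3,
    hφ' _ (fst T Q₂ ≫ y) (snd T Q₂)]

end K191.LeviInj
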