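import Groth.Agent.PRed.K543.UnipConv
import Groth.Agent.NonAbH1.K191.GrpStep
import Mathlib.RingTheory.Polynomial.Pochhammer

/-!
# Unique roots in unipotent groups in characteristic zero
-/

set_option autoImplicit false

universe u v

open TensorProduct HopfRep WithConv Coalgebra Polynomial

namespace K191.UnipRoots

open Groth.Agent.Books K543.UnipConv K191.GrpStep

variable {k : Type u} [Field k] [CharZero k] {A : Type u} [CommRing A] [HopfAlgebra k A] {R : Type u} [Field R] [Algebra k R]

omit [CharZero k] in
theorem pow_inj [CharZero R] (h : IsUnipotent k A) {g g' : WithConv (A →ₐ[k] R)} {m : ℕ} (hm : m ≠ 0) (e : g ^ m = g' ^ m) :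
    g = g' := by
  have key : ∀ n, Kills n (lin g - lin g') := by
    intro n
    induction n with
    | zero => exact kills_zero _
    | succ n ih =>
      rcases Nat.eq_zero_or_pos n with rfl | hn
      · have h1 := (kills_lin_sub g).sub (kills_lin_sub g')
        rwa [sub_sub_sub_cancel_right] at h1
      -- the product of a functional killing `soc n` with a point
      have h1 : ∀ (d : WithConv (A →ₗ[k] R)) (g : WithConv (A →ₐ[k] R)), Kills n d → Kills (n + 1) (d * lin g - d) := by
        intro d g hd
        have h2 := hd.mul (kills_lin_sub g)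
        rwa [mul_sub, _root_.mul_one] at h2
      have h1' : ∀ (d : WithConv (A →ₗ[k] R)) (g : WithConv (A →ₐ[k] R)), Kills n d → Kills (n + 1) (lin g * d - d) := by
        intro d g hd
        have h2 := (kills_lin_sub g).mul hd
        rwa [sub_mul, _root_.one_mul, add_comm 1 n] at h2
      have h3 : ∀ j : ℕ, Kills (n + 1) (lin g ^ j - lin g' ^ j - (j : WithConv (A →ₗ[k] R)) * (lin g - lin g')) := by
        intro j
        induction j with
        | zero =>
          intro a _
          have h0 : lin g ^ 0 - lin g' ^ 0 - ((0 : ℕ) : WithConv (A →ₗ[k] R)) * (lin g - lin g') = 0 := by simp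
          rw [h0]
          rfl
        | succ j ihj =>
          have h4 : lin g ^ (j + 1) - lin g' ^ (j + 1) - ((j + 1 : ℕ) : WithConv (A →ₗ[k] R)) * (lin g - lin g') =
              (lin g ^ j - lin g' ^ j - (j : WithConv (A →ₗ[k] R)) * (lin g - lin g')) * lin g +
                (((j : WithConv (A →ₗ[k] R)) * (lin g - lin g')) * lin g - (j : WithConv (A →ₗ[k] R)) * (lin g - lin g')) +
              (lin (g' ^ j) * (lin g - lin g') - (lin g - lin g')) := by
            rw [lin_pow, pow_succ, pow_succ]
            push_cast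
            noncomm_ring
          rw [h4]
          have h5 : Kills n ((j : WithConv (A →ₗ[k] R)) * (lin g - lin g')) := by
            have h6 := (kills_zero (j : WithConv (A →ₗ[k] R))).mul ih
            rwa [zero_add] at h6
          have h7 : Kills (n + 1) ((lin g ^ j - lin g' ^ j - (j : WithConv (A →ₗ[k] R)) * (lin g - lin g')) * lin g) :=
            ihj.mul (kills_zero (lin g))
          exact (h7.add (h1 _ g h5)).add (h1' _ _ ih)
      have h8 := h3 m
      rw [← lin_pow, ← lin_pow, e, sub_self, zero_sub] at h8
      intro a ha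
      have h9 := h8 a ha
      have h10 : (-((m : WithConv (A →ₗ[k] R)) * (lin g - lin g'))) a = -((m : R) * (lin g - lin g') a) := by
        have h11 : (m : WithConv (A →ₗ[k] R)) * (lin g - lin g') = m • (lin g - lin g') := by rw [nsmul_eq_mul]
        rw [h11]
        change -((m • (lin g - lin g').ofConv) a) = _
        rw [LinearMap.smul_apply, nsmul_eq_mul]
      rw [h10, neg_eq_zero, mul_eq_zero] at h9
      exact h9.resolve_left (Nat.cast_ne_zero.2 hm)
  rw [ComodSocle.isUnipotent_iff] at h
  apply WithConv.ofConv_injective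
  ext a
  obtain ⟨n, hn⟩ := h a
  have h1 := key n a hn
  have h2 : (lin g - lin g') a = g.ofConv a - g'.ofConv a := rfl
  rw [h2, sub_eq_zero] at h1
  exact h1

/-- A polynomial is determined by its values at natural numbers. -/
theorem poly_ext [CharZero R] {p q : R[X]} (h : ∀ t : ℕ, p.eval (t : R) = q.eval (t : R)) : p = q := by
  refine Polynomial.eq_of_infinite_eval_eq p q ?_
  refine Set.Infinite.mono (s := Set.range fun t : ℕ => (t : R)) ?_ (Set.infinite_range_of_injective Nat.cast_injective)
  rintro _ ⟨t, rfl⟩
  exact h t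

omit [CharZero k] in
theorem exists_poly [CharZero R] (h : IsUnipotent k A) (g : WithConv (A →ₐ[k] R)) (a : A) :
    ∃ p : R[X], ∀ t : ℕ, p.eval (t : R) = (g ^ t).ofConv a := by
  rw [ComodSocle.isUnipotent_iff] at h
  obtain ⟨n, hn⟩ := h a
  refine ⟨∑ i ∈ Finset.range n, C (((lin g - 1) ^ i) a * ((i.factorial : R))⁻¹) * descPochhammer R i, fun t => ?_⟩
  have h1 : lin (g ^ t) = ∑ i ∈ Finset.range (t + 1), (t.choose i) • (lin g - 1) ^ i := by
    rw [lin_pow]
    have h2 : lin g = (lin g - 1) + 1 := by rw [sub_add_cancel]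
    conv_lhs => rw [h2]
    rw [(Commute.one_right (lin g - 1)).add_pow]
    refine Finset.sum_congr rfl fun i _ => ?_
    rw [_root_.one_pow, _root_.mul_one, nsmul_eq_mul, (Nat.cast_commute _ _).eq]
  have h3 : (g ^ t).ofConv a = ∑ i ∈ Finset.range (t + 1), (t.choose i : R) * ((lin g - 1) ^ i) a := by
    change (lin (g ^ t)).ofConv a = _
    rw [h1]
    have h4 : (∑ i ∈ Finset.range (t + 1), (t.choose i) • (lin g - 1) ^ i).ofConv =
        ∑ i ∈ Finset.range (t + 1), (t.choose i) • ((lin g - 1) ^ i).ofConv := by
      exact map_sum (WithConv.addEquiv (A →ₗ[k] R)) _ _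
    rw [h4, LinearMap.sum_apply]
    refine Finset.sum_congr rfl fun i _ => ?_
    rw [LinearMap.smul_apply, nsmul_eq_mul]
  rw [h3, Polynomial.eval_finsetSum]
  have h5 : ∀ i, eval (t : R) (C (((lin g - 1) ^ i) a * ((i.factorial : R))⁻¹) * descPochhammer R i) =
      (t.choose i : R) * ((lin g - 1) ^ i) a := by
    intro i
    rw [eval_mul, eval_C, descPochhammer_eval_eq_descFactorial, Nat.descFactorial_eq_factorial_mul_choose]
    push_cast
    have : (i.factorial : R) ≠ 0 := Nat.cast_ne_zero.2 i.factorial_ne_zero
    field_simp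
  rw [Finset.sum_congr rfl fun i _ => h5 i]
  have h6 : ∀ i, n ≤ i → (t.choose i : R) * ((lin g - 1) ^ i) a = 0 := by
    intro i hi
    have h7 := kills_pow (kills_lin_sub g) i a (ComodSocle.soc_mono hi hn)
    rw [h7, mul_zero]
  have h8 : ∀ i, t + 1 ≤ i → (t.choose i : R) * ((lin g - 1) ^ i) a = 0 := by
    intro i hi
    rw [Nat.choose_eq_zero_of_lt (by omega), Nat.cast_zero, zero_mul]
  rcases le_total n (t + 1) with hle | hle
  · exact Finset.sum_subset (Finset.range_mono hle) fun i _ hi => h6 i (by simpa using hi)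
  · exact (Finset.sum_subset (Finset.range_mono hle) fun i _ hi => h8 i (by simpa using hi)).symm

omit [CharZero k] in
theorem exists_root [CharZero R] (h : IsUnipotent k A) (g : WithConv (A →ₐ[k] R)) {m : ℕ} (hm : m ≠ 0) :
    ∃ g' : WithConv (A →ₐ[k] R), g' ^ m = g := by
  choose p hp using exists_poly h g
  let G : A →ₐ[k] R[X] :=
    { toFun := p
      map_one' := poly_ext fun t => by rw [hp, map_one, eval_one]
      map_mul' := fun a b => poly_ext fun t => by rw [hp, map_mul, eval_mul, hp, hp]
      map_zero' := poly_ext fun t => by rw [hp, map_zero, eval_zero]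
      map_add' := fun a b => poly_ext fun t => by rw [hp, map_add, eval_add, hp, hp]
      commutes' := fun c => poly_ext fun t => by
        rw [hp, AlgHom.commutes]
        change _ = eval _ (C (algebraMap k R c))
        rw [eval_C] }
  have hG : ∀ a, G a = p a := fun _ => rfl
  -- evaluation
  let ev : R → (R[X] →ₐ[k] R) := fun r => (Polynomial.aeval r).restrictScalars k
  have hev : ∀ (r : R) (q : R[X]), ev r q = q.eval r := fun r q => by
    change Polynomial.aeval r q = _
    rw [Polynomial.coe_aeval_eq_eval]
  have hevG : ∀ t : ℕ, (ev (t : R)).comp G = (g ^ t).ofConv := by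
    intro t
    ext a
    rw [AlgHom.comp_apply, hG, hev, hp]
  -- naturality of the convolution product
  have hnat : ∀ {R₁ R₂ : Type u} [CommRing R₁] [CommRing R₂] [Algebra k R₁] [Algebra k R₂] (f : R₁ →ₐ[k] R₂)
      (x : WithConv (A →ₐ[k] R₁)) (n : ℕ), toConv (f.comp (x ^ n).ofConv) = toConv (f.comp x.ofConv) ^ n := by
    intro R₁ R₂ _ _ _ _ f x n
    let F : WithConv (A →ₐ[k] R₁) →* WithConv (A →ₐ[k] R₂) :=
      { toFun := fun x => toConv (f.comp x.ofConv)
        map_one' := by
          apply WithConv.ofConv_injective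
          ext a
          change f (algebraMap k R₁ (Coalgebra.counit a)) = algebraMap k R₂ (Coalgebra.counit a)
          rw [AlgHom.commutes]
        map_mul' := fun x y => WithConv.ofConv_injective (AlgHom.comp_convMul_distrib f x y) }
    exact map_pow F x n
  -- substitution
  let sub : R[X] →ₐ[k] R[X] := (Polynomial.aeval ((m : R[X]) * X) : R[X] →ₐ[R] R[X]).restrictScalars k
  have hsub : (toConv G) ^ m = toConv (sub.comp G) := by
    apply WithConv.ofConv_injective
    ext a : 1
    apply poly_ext
    intro t
    have h1 : ((ev (t : R)).comp ((toConv G) ^ m).ofConv) a = ((toConv ((ev (t : R)).comp G)) ^ m).ofConv a := by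
      have h2 := hnat (ev (t : R)) (toConv G) m
      exact congrArg (fun z => z.ofConv a) h2
    rw [AlgHom.comp_apply, hev] at h1
    rw [h1, hevG]
    have h3 : toConv (g ^ t).ofConv = g ^ t := rfl
    rw [h3, ← pow_mul]
    have h4 : (g ^ (t * m)).ofConv a = (p a).eval ((t * m : ℕ) : R) := (hp a _).symm
    rw [h4]
    change _ = eval (t : R) ((p a).comp ((m : R[X]) * X))
    rw [Polynomial.eval_comp]
    congr 1
    simp [mul_comm]
  refine ⟨toConv ((ev ((m : R)⁻¹)).comp G), ?_⟩
  have h1 := hnat (ev ((m : R)⁻¹)) (toConv G) m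
  rw [hsub] at h1
  change _ = toConv ((ev ((m : R)⁻¹)).comp G) ^ m at h1
  rw [← h1]
  apply WithConv.ofConv_injective
  ext a
  change ev ((m : R)⁻¹) ((p a).comp ((m : R[X]) * X)) = g.ofConv a
  rw [hev, Polynomial.eval_comp]
  have h2 : ((m : R[X]) * X).eval ((m : R)⁻¹) = ((1 : ℕ) : R) := by
    rw [eval_mul, eval_X, eval_natCast, Nat.cast_one]
    exact mul_inv_cancel₀ (Nat.cast_ne_zero.2 hm)
  rw [h2, hp, pow_one]

/-- Groups of field valued points of unipotent groups in characteristic zero have unique roots. -/
theorem uroots (h : IsUnipotent k A) : URoots (WithConv (A →ₐ[k] R)) := by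
  have : CharZero R := charZero_of_injective_algebraMap (algebraMap k R).injective
  exact fun m hm => ⟨fun g g' e => pow_inj h hm e, fun g => exists_root h g hm⟩

end K191.UnipRoots
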