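import Groth.Agent.NonAbH1.K191.RedTors
import Groth.Agent.NonAbH1.K191.UnipRoots
import Groth.Agent.NonAbH1.K191.LeviInj
import Groth.Agent.PRed.K543.UnipPts

/-!
# Reduction of a torsor to a Levi subgroup in characteristic zero
-/

set_option autoImplicit false
universe u

open CategoryTheory CategoryTheory.Limits MonoidalCategory CartesianMonoidalCategory MonObj GrpObj AlgebraicGeometry
open Groth.Agent Groth.Agent.Books.BorelOrb K554.Fpqc K554.FibAct K191.GalPt K191.GrpStep K191.LeviInj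
open Groth.Agent.Books.AffBridge Groth.Agent.Books.AffBridge2 Groth.Agent.Sga3B Groth.Agent.Sga3B.AffPts

namespace K191.LeviEx

section Pts

variable {K L : Type u} [Field K] [Field L] [Algebra K L]

/-- Galois action on points -/
noncomputable def ga (G : Over (Spec (CommRingCat.of K))) [GrpObj G] (σ : L ≃ₐ[K] L) : (Om K L ⟶ G) ≃* (Om K L ⟶ G) where
  toFun g := gs σ ≫ g
  invFun g := gs σ.symm ≫ g
  left_inv g := (gsIso σ).inv_hom_id_assoc g
  right_inv g := (gsIso σ).hom_inv_id_assoc g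
  map_mul' g h := MonObj.comp_mul _ _ _

lemma ga_apply (G : Over (Spec (CommRingCat.of K))) [GrpObj G] (σ : L ≃ₐ[K] L) (g : Om K L ⟶ G) :
    ga G σ g = gs σ ≫ g := rfl

/-- The action on points. -/
@[reducible] noncomputable def ptAct {S : Scheme.{u}} {G P : Over S} [GrpObj G] (a : AlgGrp.Action G P) (T : Over S) :
    MulAction (T ⟶ G) (T ⟶ P) where
  smul g x := sm a g x
  one_smul := one_sm a
  mul_smul := mul_sm a

/-- Composition with a homomorphism. -/
noncomputable def pc {S : Scheme.{u}} {G H : Over S} [GrpObj G] [GrpObj H] (i : H ⟶ G) [IsMonHom i] (T : Over S) :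
    (T ⟶ H) →* (T ⟶ G) where
  toFun h := h ≫ i
  map_one' := MonObj.one_comp _
  map_mul' _ _ := MonObj.mul_comp _ _ _

lemma mem_pc {S : Scheme.{u}} {G H : Over S} [GrpObj G] [GrpObj H] (i : H ⟶ G) [IsMonHom i] (T : Over S) (g : T ⟶ G) :
    g ∈ (pc i T).range ↔ ∃ h : T ⟶ H, h ≫ i = g := Iff.rfl

variable {G H P : Over (Spec (CommRingCat.of K))} [GrpObj G] [GrpObj H] {a : AlgGrp.Action G P}

theorem sym (ha : NonAbH1.IsPseudoTorsorSch a) :
    letI := ptAct a (Om K L); Sym (ga G) (fun (σ : L ≃ₐ[K] L) (x : Om K L ⟶ P) => gs σ ≫ x) := by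
  letI := ptAct a (Om K L)
  refine ⟨fun x y => ⟨dif ha y x, sm_dif ha y x⟩, fun n x h => ?_, fun σ n x => ?_⟩
  · have h1 : sm a n x = sm a 1 x := by rw [one_sm]; exact h
    exact sm_injective ha x h1
  · exact comp_sm a (gs σ) n x

theorem stab (i : H ⟶ G) [IsMonHom i] : Stab (ga G) (pc i (Om K L)).range := by
  intro σ v
  rw [mem_pc, mem_pc, ga_apply]
  constructor
  · rintro ⟨h, hh⟩
    refine ⟨gs σ.symm ≫ h, ?_⟩
    rw [Category.assoc, hh]
    exact (gsIso σ).inv_hom_id_assoc v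
  · rintro ⟨h, rfl⟩
    exact ⟨gs σ ≫ h, Category.assoc _ _ _⟩

theorem normal_range {S : Scheme.{u}} {G U : Over S} [GrpObj G] [GrpObj U] (u : U ⟶ G) [IsMonHom u]
    (hn : AlgGrp.IsNormalHom u) (T : Over S) : (pc u T).range.Normal := by
  refine ⟨fun n hnn g => ?_⟩
  obtain ⟨v, rfl⟩ := (mem_pc u T n).1 hnn
  obtain ⟨n', hn'⟩ := hn T g v
  exact (mem_pc u T _).2 ⟨n', hn'.symm⟩

theorem URoots.congr {G G' : Type*} [Group G] [Group G'] (e : G ≃* G') (h : URoots G) : URoots G' := by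
  intro n hn
  have h1 : (fun x : G' => x ^ n) = e ∘ (fun x : G => x ^ n) ∘ e.symm := by
    ext x
    simp
  rw [h1]
  exact e.bijective.comp ((h n hn).comp e.symm.bijective)

theorem injective_pc {S : Scheme.{u}} {G U : Over S} [GrpObj G] [GrpObj U] (u : U ⟶ G) [IsMonHom u] [Mono u]
    (T : Over S) : Function.Injective (pc u T) := fun _ _ h => (cancel_mono u).1 h

theorem exists_levi_pt [CharZero K] [IsAlgClosed L] [Algebra.IsAlgebraic K L]
    {Lv U : Over (Spec (CommRingCat.of K))} [GrpObj Lv] [GrpObj U] (l : Lv ⟶ G) (u : U ⟶ G) [IsMonHom l] [IsMonHom u]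
    [Mono u] (hd : Dec l u) (hn : AlgGrp.IsNormalHom u) (hr : URoots (Om K L ⟶ U)) (hnil : Group.IsNilpotent (Om K L ⟶ U))
    (ha : NonAbH1.IsPseudoTorsorSch a) [IsAffine P.left] [LocallyOfFiniteType P.hom] (x : Om K L ⟶ P) :
    ∃ y : Om K L ⟶ P, ∀ σ : L ≃ₐ[K] L, ∃ h : Om K L ⟶ Lv, gs σ ≫ y = sm a (h ≫ l) y := by
  letI := ptAct a (Om K L)
  have hN : (pc u (Om K L)).range.Normal := normal_range u hn _
  let e : (Om K L ⟶ U) ≃* (pc u (Om K L)).range := MonoidHom.ofInjective (injective_pc u (Om K L))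
  have hnil' : Group.IsNilpotent (pc u (Om K L)).range := Group.isNilpotent_congr e |>.1 hnil
  have hr' : URoots (pc u (Om K L)).range := URoots.congr e hr
  obtain ⟨v, hv, hvv⟩ := unip (sym (L := L) ha) (pc l (Om K L)).range (pc u (Om K L)).range hr' (stab l) (stab u) (by
      intro v hv hv'
      obtain ⟨h, hh⟩ := (mem_pc _ _ _).1 hv
      obtain ⟨w, hw⟩ := (mem_pc _ _ _).1 hv'
      have h1 := hd.uniq _ h 1 1 w (by rw [MonObj.one_comp, MonObj.one_comp, _root_.mul_one, _root_.one_mul, hh, hw])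
      rw [← hh, h1.1, MonObj.one_comp]) (fun x => exists_finset x) x (by
      intro σ
      obtain ⟨h, w, hhw⟩ := hd.ex _ (dif ha (gs σ ≫ x) x)
      refine ⟨h ≫ l, ⟨h, rfl⟩, w ≫ u, ⟨w, rfl⟩, ?_⟩
      rw [← hhw]
      exact (sm_dif ha _ _).symm)
  refine ⟨sm a v x, fun σ => ?_⟩
  obtain ⟨m, ⟨h, rfl⟩, hm⟩ := hvv σ
  exact ⟨h, hm⟩

end Pts

section Unip

variable {k : Type u} [Field k] [CharZero k] (U : Over (Spec (CommRingCat.of k))) [GrpObj U] [IsAffine U.left]
  [Smooth U.hom] [ConnectedSpace ↥U.left]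

/-- Unique roots in the points of unipotent groups. -/
theorem uroots_pts (h : ∀ s : ↥(Spec (CommRingCat.of k)),
      Red.HasNoSubtorus (AlgebraicClosure ((Spec (CommRingCat.of k)).residueField s)) (Red.geomFibre s U))
    (L : Type u) [Field L] [Algebra k L] : URoots (SpecOver k L ⟶ U) := by
  obtain ⟨A, _, _, e, he, _, hA⟩ := K543.UnipPts.exists_isUnipotent U h
  have h1 := K191.UnipRoots.uroots (R := L) hA
  have h2 := URoots.congr (RG.BrPts.rptEquiv k A L) h1
  let e' : (SpecOver k L ⟶ SpecOver k A) ≃* (SpecOver k L ⟶ U) :=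
    { toFun := fun x => x ≫ e.inv
      invFun := fun x => x ≫ e.hom
      left_inv := fun x => by
        change (x ≫ e.inv) ≫ e.hom = x
        rw [Category.assoc, Iso.inv_hom_id, Category.comp_id]
      right_inv := fun x => by
        change (x ≫ e.hom) ≫ e.inv = x
        rw [Category.assoc, Iso.hom_inv_id, Category.comp_id]
      map_mul' := fun x y => MonObj.mul_comp _ _ _ }
  exact URoots.congr e' h2

end Unip

end K191.LeviEx
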