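import Groth.Agent.NonAbH1.K191.LeviEx
import Groth.Agent.AGF.K500.Ru

/-!
# Torsors under a linear algebraic group and under its Levi subgroup
-/

set_option autoImplicit false
universe u

open CategoryTheory CategoryTheory.Limits MonoidalCategory CartesianMonoidalCategory MonObj GrpObj AlgebraicGeometry
open Groth.Agent Groth.Agent.Books.BorelOrb K554.Fpqc K554.FibAct K191.GalPt K191.GrpStep K191.LeviInj K191.LeviEx
open Groth.Agent.Books.AffBridge Groth.Agent.Books.AffBridge2 Groth.Agent.Sga3B Groth.Agent.Sga3B.AffPts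

namespace K191.LeviMain

section Dec

variable {S S' : Scheme.{u}} {G L U : Over S} [GrpObj G] [GrpObj L] [GrpObj U]

omit [GrpObj L] [GrpObj U] in
theorem dec_of_isIso {l : L ⟶ G} {u : U ⟶ G} (h : IsIso ((l ⊗ₘ u) ≫ μ[G])) : Dec l u := by
  have key : ∀ (T : Over S) (h : T ⟶ L) (v : T ⟶ U), lift h v ≫ (l ⊗ₘ u) ≫ μ[G] = (h ≫ l) * (v ≫ u) := by
    intro T h v
    rw [lift_map_assoc, Hom.mul_def]
  refine ⟨fun T g => ?_, fun T h h' v v' e => ?_⟩
  · let z : T ⟶ L ⊗ U := g ≫ inv ((l ⊗ₘ u) ≫ μ[G])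
    refine ⟨z ≫ fst L U, z ≫ snd L U, ?_⟩
    rw [← key, ← comp_lift, lift_fst_snd, Category.comp_id]
    simp [z]
  · rw [← key, ← key, cancel_mono] at e
    exact ⟨by rw [← lift_fst h v, e, lift_fst], by rw [← lift_snd h v, e, lift_snd]⟩

omit [GrpObj L] [GrpObj U] in
theorem dec_bc (f : S' ⟶ S) {l : L ⟶ G} {u : U ⟶ G} (hdec : Dec l u) :
    Dec ((Over.pullback f).map l) ((Over.pullback f).map u) := by
  have key : ∀ (T : Over S') (h : (Over.map f).obj T ⟶ L) (v : (Over.map f).obj T ⟶ U),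
      BcPts.bcMulEquiv f T G ((h ≫ l) * (v ≫ u)) = (BcPts.bcEquiv f T L h ≫ (Over.pullback f).map l) *
        (BcPts.bcEquiv f T U v ≫ (Over.pullback f).map u) := by
    intro T h v
    rw [map_mul, ← BcPts.bcEquiv_comp, ← BcPts.bcEquiv_comp]
    rfl
  refine ⟨fun T g => ?_, fun T h h' v v' e => ?_⟩
  · obtain ⟨h, v, hhv⟩ := hdec.ex _ ((BcPts.bcMulEquiv f T G).symm g)
    refine ⟨BcPts.bcEquiv f T L h, BcPts.bcEquiv f T U v, ?_⟩
    rw [← key, ← hhv, MulEquiv.apply_symm_apply]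
  · obtain ⟨h, rfl⟩ := (BcPts.bcEquiv f T L).surjective h
    obtain ⟨h', rfl⟩ := (BcPts.bcEquiv f T L).surjective h'
    obtain ⟨v, rfl⟩ := (BcPts.bcEquiv f T U).surjective v
    obtain ⟨v', rfl⟩ := (BcPts.bcEquiv f T U).surjective v'
    rw [← key, ← key] at e
    obtain ⟨e1, e2⟩ := hdec.uniq _ _ _ _ _ ((BcPts.bcMulEquiv f T G).injective e)
    exact ⟨by rw [e1], by rw [e2]⟩

end Dec

section Torsor

variable {K : Type u} [Field K] [CharZero K] {G Lv U : Over (Spec (CommRingCat.of K))} [GrpObj G] [GrpObj Lv] [GrpObj U]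
  [IsAffine G.left] [LocallyOfFiniteType G.hom] (l : Lv ⟶ G) (u : U ⟶ G) [IsMonHom l] [IsMonHom u]
  [IsClosedImmersion l.left] [Mono u] (hd : Dec l u) (hn : AlgGrp.IsNormalHom u)

include hd hn

theorem exists_red (hr : URoots (Om K (AlgebraicClosure K) ⟶ U)) (hnil : Group.IsNilpotent (Om K (AlgebraicClosure K) ⟶ U))
    (P : NonAbH1.TorsorSch G Scheme.etalePrecoverage) :
    ∃ Q : NonAbH1.TorsorSch Lv Scheme.etalePrecoverage, NonAbH1.IsPushforwardAlongSch l Q.act P.act := by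
  have hne : Nonempty P.X.left := RedTors.nonempty_of_etale P.isTorsor.2
  have haff : IsAffine P.X.left := K826.TorsField.isAffine_of_torsor P.act P.isTorsor.1
  have hft : LocallyOfFiniteType P.X.hom := K826.TorsField.locallyOfFiniteType_of_torsor P.act P.isTorsor.1
  obtain ⟨x⟩ := RedTors.exists_pt (AlgebraicClosure K) P.X
  obtain ⟨y, hy⟩ := exists_levi_pt l u hd hn hr hnil P.isTorsor.1 x
  have hl : LocallyOfFiniteType Lv.hom := by
    rw [← Over.w l]
    infer_instance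
  exact RedTors.exists_torsor l (AlgebraicClosure K) P.isTorsor.1 y hy

theorem iso_of_push (Q₁ Q₂ : NonAbH1.TorsorSch Lv Scheme.etalePrecoverage) (P : NonAbH1.TorsorSch G Scheme.etalePrecoverage)
    (h₁ : NonAbH1.IsPushforwardAlongSch l Q₁.act P.act) (h₂ : NonAbH1.IsPushforwardAlongSch l Q₂.act P.act) :
    Nonempty (NonAbH1.EquivIso Q₁.act Q₂.act) := by
  obtain ⟨f₁, hf₁⟩ := h₁
  obtain ⟨f₂, hf₂⟩ := h₂
  have hl : IsAffine Lv.left := isAffine_of_isAffineHom l.left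
  have hne : Nonempty Q₂.X.left := RedTors.nonempty_of_etale Q₂.isTorsor.2
  have haff : IsAffine Q₂.X.left := K826.TorsField.isAffine_of_torsor Q₂.act Q₂.isTorsor.1
  have hfl : Flat Q₂.X.hom := K826.TorsField.flat_of_field _
  have hsu : Surjective Q₂.X.hom := K826.TorsField.surjective_of_nonempty _
  have key : ∀ (Q : NonAbH1.TorsorSch Lv Scheme.etalePrecoverage) (f : Q.X ⟶ P.X)
      (hf : Q.act.act ≫ f = lift (fst Lv Q.X ≫ l) (snd Lv Q.X ≫ f) ≫ P.act.act) (T : Over (Spec (CommRingCat.of K)))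
      (h : T ⟶ Lv) (y : T ⟶ Q.X), sm Q.act h y ≫ f = sm P.act (h ≫ l) (y ≫ f) := by
    intro Q f hf T h y
    rw [sm, Category.assoc, hf, sm, ← Category.assoc, comp_lift, lift_fst_assoc, lift_snd_assoc]
  obtain ⟨φ, hφ⟩ := exists_equivariant hd hn P.isTorsor.1 Q₂.isTorsor.1 f₁ f₂ (key Q₁ f₁ hf₁) (key Q₂ f₂ hf₂)
  have hloc : NonAbH1.IsTorsorFor Scheme.fpqcPrecoverage Q₁.act := by
    refine ⟨Q₁.isTorsor.1, ?_⟩
    have : Nonempty Q₁.X.left := RedTors.nonempty_of_etale Q₁.isTorsor.2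
    have : IsAffine Q₁.X.left := K826.TorsField.isAffine_of_torsor Q₁.act Q₁.isTorsor.1
    exact K826.TorsField.locTriv_of_nonempty _
  have hiso : IsIso φ := isIso_of_isEquivariant Scheme.fpqcPrecoverage Q₁.act Q₂.act hloc Q₂.isTorsor.1 φ (by
    rw [isEquivariant_iff]
    exact hφ)
  refine ⟨⟨asIso φ, ?_⟩⟩
  have h1 := hφ _ (fst Lv Q₁.X) (snd Lv Q₁.X)
  rw [sm, lift_fst_snd, Category.id_comp] at h1
  rw [asIso_hom, h1, sm]
  congr 1

end Torsor

end K191.LeviMain
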