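import Groth.Agent.NonAbH1.K191.LPts
import Groth.Agent.NonAbH1.K191.LeviEx

/-!
# Geometric points of base changes

`k ⊆ K ⊆ L`: `lp X : (Om K L ⟶ bc f X) ≃* (SpecOver k L ⟶ X)`, compatible with homomorphisms and with the Galois action; constant
points `cst`.
-/

set_option autoImplicit false
universe u

open CategoryTheory CategoryTheory.Limits MonoidalCategory CartesianMonoidalCategory MonObj GrpObj AlgebraicGeometry
open Groth.Agent Groth.Agent.Books.AffBridge Groth.Agent.Books.AffBridge2 Groth.Agent.Sga3B Groth.Agent.Sga3B.RG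
open Groth.Agent.Sga3B.RG.BrPts K191.GalPt K191.LeviEx

namespace K191.Lp

variable (k K L : Type u) [Field k] [Field K] [Field L] [Algebra k K] [Algebra K L] [Algebra k L] [IsScalarTower k K L]

/-- the structure morphism -/
noncomputable abbrev ff : Spec (CommRingCat.of K) ⟶ Spec (CommRingCat.of k) := Spec.map (CommRingCat.ofHom (algebraMap k K))

/-- `Spec L` over `Spec k` -/
noncomputable def eT : SpecOver k L ≅ (Over.map (ff k K)).obj (Om K L) := Over.isoMk (Iso.refl _) (by
    change 𝟙 _ ≫ Spec.map _ ≫ Spec.map _ = Spec.map _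
    rw [Category.id_comp, ← Spec.map_comp, ← CommRingCat.ofHom_comp, ← IsScalarTower.algebraMap_eq])

/-- Points of base changes. -/
noncomputable def lp (X : Over (Spec (CommRingCat.of k))) [GrpObj X] :
    (Om K L ⟶ Red.bc (ff k K) X) ≃* (SpecOver k L ⟶ X) :=
  (BcPts.bcMulEquiv (ff k K) (Om K L) X).symm.trans
    { toFun := fun x => (eT k K L).hom ≫ x
      invFun := fun x => (eT k K L).inv ≫ x
      left_inv := fun x => (eT k K L).inv_hom_id_assoc x
      right_inv := fun x => (eT k K L).hom_inv_id_assoc x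
      map_mul' := fun _ _ => MonObj.comp_mul _ _ _ }

variable {k K L}

lemma lp_apply (X : Over (Spec (CommRingCat.of k))) [GrpObj X] (x : Om K L ⟶ Red.bc (ff k K) X) :
    lp k K L X x = (eT k K L).hom ≫ (BcPts.bcEquiv (ff k K) (Om K L) X).symm x := rfl

lemma lp_comp {X Y : Over (Spec (CommRingCat.of k))} [GrpObj X] [GrpObj Y] (i : X ⟶ Y)
    (x : Om K L ⟶ Red.bc (ff k K) X) :
    lp k K L Y (x ≫ (Over.pullback (ff k K)).map i) = lp k K L X x ≫ i := by
  rw [lp_apply, lp_apply, BcPts.bcEquiv_symm_comp, Category.assoc]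

/-- the Galois action on `Spec L` over `Spec k` -/
noncomputable def gk (σ : L ≃ₐ[K] L) : SpecOver k L ⟶ SpecOver k L := specMap k ((σ : L →ₐ[K] L).restrictScalars k)

lemma gs_eT (σ : L ≃ₐ[K] L) :
    (eT k K L).hom ≫ (Over.map (ff k K)).map (gs σ) = gk σ ≫ (eT k K L).hom := by
  ext1
  exact (Category.id_comp _).trans (Category.comp_id _).symm

lemma gs_lp (X : Over (Spec (CommRingCat.of k))) [GrpObj X] (σ : L ≃ₐ[K] L) (x : Om K L ⟶ Red.bc (ff k K) X) :
    lp k K L X (gs σ ≫ x) = gk σ ≫ lp k K L X x := by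
  rw [lp_apply, lp_apply, BcPts.comp_bcEquiv_symm, ← Category.assoc, ← Category.assoc, gs_eT]

variable (k L) in
/-- `Spec L → Spec k` -/
noncomputable def toK : SpecOver k L ⟶ SpecOver k k := specMap k (Algebra.ofId k L)

lemma gk_toK (σ : L ≃ₐ[K] L) : gk (k := k) σ ≫ toK k L = toK k L := by
  rw [gk, toK, ← specMap_comp]
  congr 1
  ext

variable {A : Type u} [CommRing A] [HopfAlgebra k A]

variable (K L A) in
/-- Constant points. -/
noncomputable def cst : Pt k A →* (Om K L ⟶ Red.bc (ff k K) (SpecOver k A)) :=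
  (lp k K L (SpecOver k A)).symm.toMonoidHom.comp
    (({ toFun := fun x => toK k L ≫ x
        map_one' := MonObj.comp_one _
        map_mul' := fun _ _ => MonObj.comp_mul _ _ _ } :
          (SpecOver k k ⟶ SpecOver k A) →* (SpecOver k L ⟶ SpecOver k A)).comp
      (rptEquiv k A k).toMonoidHom)

lemma lp_cst (p : Pt k A) : lp k K L (SpecOver k A) (cst K L A p) = toK k L ≫ specMap k p.ofConv :=
  (lp k K L (SpecOver k A)).apply_symm_apply _

lemma gs_cst (σ : L ≃ₐ[K] L) (p : Pt k A) : gs σ ≫ cst K L A p = cst K L A p := by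
  apply (lp k K L (SpecOver k A)).injective
  rw [gs_lp, lp_cst, ← Category.assoc, gk_toK]

lemma cst_injective : Function.Injective (cst (k := k) K L A) := by
  intro p q h
  have h1 := congrArg (lp k K L (SpecOver k A)) h
  rw [lp_cst, lp_cst, toK, ← specMap_comp, ← specMap_comp] at h1
  have h2 := specMap_injective k h1
  apply WithConv.ofConv_injective
  ext a
  exact (algebraMap k L).injective (AlgHom.congr_fun h2 a)

end K191.Lp
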