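import Groth.Agent.Sga3B.RG.BrDiag
import Mathlib.RingTheory.RootsOfUnity.Basic

/-!
# Points of a split torus with values in field extensions of an algebraically closed field

`cc : (SpecOver k L ⟶ SpecOver k k[ℤ^n]) ≃* (Fin n → Lˣ)`, natural in `L` (`cc_comp`); divisibility (`exists_root`), torsion points
come from `k` (`exists_const`), finiteness of the torsion (`finite_torsion`).
-/

set_option autoImplicit false
universe u

open CategoryTheory MonoidalCategory CartesianMonoidalCategory MonObj GrpObj AlgebraicGeometry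
open Groth.Agent.Books.AffBridge Groth.Agent.Books.AffBridge2 Groth.Agent.Sga3B.RG.BrDiag

namespace K191.TorL

/-- homomorphisms from `ℤ^n` -/
noncomputable def homE (n : ℕ) (G : Type*) [CommGroup G] : (Fin n → G) ≃* (Multiplicative (Fin n → ℤ) →* G) where
  toFun u :=
    { toFun := fun m => ∏ i, u i ^ (m.toAdd i)
      map_one' := by simp
      map_mul' := fun a b => by
        rw [← Finset.prod_mul_distrib]
        refine Finset.prod_congr rfl fun i _ => ?_
        rw [toAdd_mul, Pi.add_apply, zpow_add] }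
  invFun χ i := χ (Multiplicative.ofAdd (Pi.single i 1))
  left_inv u := by
    ext i
    change ∏ j, u j ^ ((Pi.single i 1 : Fin n → ℤ) j) = u i
    rw [Finset.prod_eq_single i]
    · rw [Pi.single_eq_same, zpow_one]
    · intro j _ hj
      rw [Pi.single_eq_of_ne hj, zpow_zero]
    · intro h
      exact absurd (Finset.mem_univ i) h
  right_inv χ := by
    refine MonoidHom.ext fun m => ?_
    change ∏ j, χ (Multiplicative.ofAdd (Pi.single j 1)) ^ (m.toAdd j) = χ m
    have h1 : m = ∏ j, (Multiplicative.ofAdd (Pi.single j (1 : ℤ) : Fin n → ℤ)) ^ (m.toAdd j) := by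
      apply Multiplicative.toAdd.injective
      rw [toAdd_prod]
      ext i
      rw [Finset.sum_apply, Finset.sum_eq_single i]
      · rw [toAdd_zpow, toAdd_ofAdd, Pi.smul_apply, Pi.single_eq_same, smul_eq_mul, _root_.mul_one]
      · intro j _ hj
        rw [toAdd_zpow, toAdd_ofAdd, Pi.smul_apply, Pi.single_eq_of_ne (Ne.symm hj), smul_zero]
      · intro h
        exact absurd (Finset.mem_univ i) h
    conv_rhs => rw [h1, map_prod]
    refine Finset.prod_congr rfl fun j _ => (map_zpow χ _ _).symm
  map_mul' u v := by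
    refine MonoidHom.ext fun m => ?_
    change ∏ i, (u i * v i) ^ (m.toAdd i) = (∏ i, u i ^ (m.toAdd i)) * ∏ i, v i ^ (m.toAdd i)
    rw [← Finset.prod_mul_distrib]
    exact Finset.prod_congr rfl fun i _ => mul_zpow _ _ _

/-- homomorphisms from a group to a monoid -/
noncomputable def unE (M L : Type*) [Group M] [CommMonoid L] : (M →* Lˣ) ≃* (M →* L) where
  toFun χ := (Units.coeHom L).comp χ
  invFun χ := χ.toHomUnits
  left_inv χ := by
    ext m
    rfl
  right_inv χ := by
    ext m
    rfl
  map_mul' χ χ' := by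
    ext m
    rfl

variable (k : Type u) [Field k] (n : ℕ)

/-- the split torus -/
noncomputable abbrev Tn : Over (Spec (CommRingCat.of k)) := SpecOver k (MonoidAlgebra k (Multiplicative (Fin n → ℤ)))

variable (L : Type u) [Field L] [Algebra k L]

/-- Points of the split torus -/
noncomputable def cc : (Fin n → Lˣ) ≃* (SpecOver k L ⟶ Tn k n) :=
  ((homE n Lˣ).trans (unE (Multiplicative (Fin n → ℤ)) L)).trans
    ((MonoidAlgebra.liftMulEquiv k L (Multiplicative (Fin n → ℤ))).trans
      (rptEquivRing k (MonoidAlgebra k (Multiplicative (Fin n → ℤ))) L))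

variable {k n L}

lemma cc_apply (u : Fin n → Lˣ) : cc k n L u = specMap k (MonoidAlgebra.lift k L (Multiplicative (Fin n → ℤ))
    (unE (Multiplicative (Fin n → ℤ)) L (homE n Lˣ u))) := rfl

theorem cc_comp {L' : Type u} [Field L'] [Algebra k L'] (τ : L →ₐ[k] L') (u : Fin n → Lˣ) :
    specMap k τ ≫ cc k n L u = cc k n L' (fun i => Units.map (τ : L →* L') (u i)) := by
  rw [cc_apply, cc_apply, ← specMap_comp]
  congr 1
  refine MonoidAlgebra.algHom_ext (fun m => ?_) (by ext)
  rw [AlgHom.comp_apply, MonoidAlgebra.lift_single, MonoidAlgebra.lift_single, one_smul, one_smul]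
  change τ ((∏ i, u i ^ (m.toAdd i) : Lˣ) : L) = ((∏ i, Units.map (τ : L →* L') (u i) ^ (m.toAdd i) : L'ˣ) : L')
  have h1 : ((∏ i, Units.map (τ : L →* L') (u i) ^ (m.toAdd i) : L'ˣ)) =
      Units.map (τ : L →* L') (∏ i, u i ^ (m.toAdd i)) := by
    rw [map_prod]
    exact Finset.prod_congr rfl fun i _ => (map_zpow _ _ _).symm
  rw [h1]
  rfl

theorem exists_root [IsAlgClosed L] (t : SpecOver k L ⟶ Tn k n) {m : ℕ} (hm : m ≠ 0) : ∃ s : SpecOver k L ⟶ Tn k n, s ^ m = t := by
  obtain ⟨u, rfl⟩ := (cc k n L).surjective t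
  have h1 : ∀ i, ∃ z : Lˣ, z ^ m = u i := by
    intro i
    obtain ⟨z, hz⟩ := IsAlgClosed.exists_pow_nat_eq (u i : L) (Nat.pos_of_ne_zero hm)
    have hz0 : z ≠ 0 := by
      rintro rfl
      rw [zero_pow hm] at hz
      exact (u i).ne_zero hz.symm
    exact ⟨Units.mk0 z hz0, Units.ext hz⟩
  choose z hz using h1
  refine ⟨cc k n L z, ?_⟩
  rw [← map_pow]
  congr 1
  ext i
  exact congrArg Units.val (hz i)

/-- torsion points are constant -/
theorem exists_const [IsAlgClosed k] (t : SpecOver k L ⟶ Tn k n) {m : ℕ} (hm : m ≠ 0) (ht : t ^ m = 1) :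
    ∃ s : SpecOver k k ⟶ Tn k n, specMap k (Algebra.ofId k L) ≫ s = t := by
  obtain ⟨u, rfl⟩ := (cc k n L).surjective t
  rw [← map_pow, map_eq_one_iff _ (cc k n L).injective] at ht
  have h1 : ∀ i, ∃ z : kˣ, Units.map (algebraMap k L : k →* L) z = u i := by
    intro i
    have h2 : (u i : L) ^ m = 1 := congrArg Units.val (congrFun ht i)
    have h3 : IsIntegral k (u i : L) := by
      refine IsIntegral.of_pow (Nat.pos_of_ne_zero hm) ?_
      rw [h2]
      exact isIntegral_one
    have h4 : (minpoly k (u i : L)).degree = 1 :=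
      IsAlgClosed.degree_eq_one_of_irreducible k (minpoly.irreducible h3)
    obtain ⟨z, hz⟩ := minpoly.mem_range_of_degree_eq_one k (u i : L) h4
    have hz0 : z ≠ 0 := by
      rintro rfl
      rw [map_zero] at hz
      exact (u i).ne_zero hz.symm
    exact ⟨Units.mk0 z hz0, Units.ext hz⟩
  choose z hz using h1
  refine ⟨cc k n k z, ?_⟩
  rw [cc_comp]
  congr 1
  funext i
  exact hz i

theorem finite_torsion {m : ℕ} (hm : m ≠ 0) : {t : SpecOver k L ⟶ Tn k n | t ^ m = 1}.Finite := by
  have h1 : {z : Lˣ | z ^ m = 1}.Finite := by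
    have : NeZero m := ⟨hm⟩
    have h2 : {z : Lˣ | z ^ m = 1} = (rootsOfUnity m L : Set Lˣ) := by
      ext z
      exact (mem_rootsOfUnity m z).symm
    rw [h2]
    have h3 : Finite (rootsOfUnity m L) := inferInstance
    exact Set.finite_coe_iff.1 h3
  have h2 : {u : Fin n → Lˣ | u ^ m = 1}.Finite := by
    have h3 : {u : Fin n → Lˣ | u ^ m = 1} = Set.pi Set.univ fun _ => {z : Lˣ | z ^ m = 1} := by
      ext u
      constructor
      · intro h i _
        exact congrFun h i
      · intro h
        funext i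
        exact h i trivial
    rw [h3]
    exact Set.Finite.pi fun _ => h1
  refine (h2.image (cc k n L)).subset ?_
  intro t ht
  obtain ⟨u, rfl⟩ := (cc k n L).surjective t
  refine ⟨u, ?_, rfl⟩
  rw [Set.mem_ofPred_eq, ← map_pow, map_eq_one_iff _ (cc k n L).injective] at ht
  exact ht

theorem comm (s t : SpecOver k L ⟶ Tn k n) : s * t = t * s := by
  obtain ⟨u, rfl⟩ := (cc k n L).surjective t
  obtain ⟨v, rfl⟩ := (cc k n L).surjective s
  rw [← map_mul, ← map_mul, mul_comm]

end K191.TorL
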