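import Groth.Agent.NonAbH1.K191.CartPts
import Groth.Agent.NonAbH1.K191.FinSup
import Groth.Agent.NonAbH1.K191.TorL
import Groth.Agent.NonAbH1.K191.UnipRoots
import Groth.Agent.PRed.K543.UnipHopf

/-!
# Finite supplements of the Cartan subgroup in groups with normal maximal torus

`k` algebraically closed of characteristic zero, `T` a normal maximal torus of `Pt k A`: there are `U` closed connected normal
unipotent and `S` finite with `Pt k A = S T U`.
-/

set_option autoImplicit false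
universe u

open CategoryTheory MonoidalCategory CartesianMonoidalCategory MonObj GrpObj AlgebraicGeometry Limits
open Groth.Agent Groth.Agent.Books.AffBridge Groth.Agent.Books.AffBridge2

namespace K191.NormPts

open Groth.Agent.Sga3B Groth.Agent.Sga3B.RG Groth.Agent.Sga3B.RG.BrPts K191.GrpStep K191.FinSup K191.TorL

variable {k : Type u} [Field k]

section Units

variable (n : ℕ) (L : Type u) [Field L]

theorem exists_root_un [IsAlgClosed L] (u : Fin n → Lˣ) {m : ℕ} (hm : m ≠ 0) : ∃ v : Fin n → Lˣ, v ^ m = u := by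
  have h1 : ∀ i, ∃ z : Lˣ, z ^ m = u i := by
    intro i
    obtain ⟨z, hz⟩ := IsAlgClosed.exists_pow_nat_eq (u i : L) (Nat.pos_of_ne_zero hm)
    have hz0 : z ≠ 0 := by
      rintro rfl
      rw [zero_pow hm] at hz
      exact (u i).ne_zero hz.symm
    exact ⟨Units.mk0 z hz0, Units.ext hz⟩
  choose z hz using h1
  exact ⟨z, funext hz⟩

theorem finite_torsion_un {m : ℕ} (hm : m ≠ 0) : {u : Fin n → Lˣ | u ^ m = 1}.Finite := by
  have h1 : {z : Lˣ | z ^ m = 1}.Finite := by
    have : NeZero m := ⟨hm⟩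
    have h2 : {z : Lˣ | z ^ m = 1} = (rootsOfUnity m L : Set Lˣ) := by
      ext z
      exact (mem_rootsOfUnity m z).symm
    rw [h2]
    have h3 : Finite (rootsOfUnity m L) := inferInstance
    exact Set.finite_coe_iff.1 h3
  have h3 : {u : Fin n → Lˣ | u ^ m = 1} = Set.pi Set.univ fun _ => {z : Lˣ | z ^ m = 1} := by
    ext u
    constructor
    · intro h i _
      exact congrFun h i
    · intro h
      funext i
      exact h i trivial
  rw [h3]
  exact Set.Finite.pi fun _ => h1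

variable {n L}

theorem tor_range {E : Type*} [Group E] (j : (Fin n → Lˣ) →* E) (hj : Function.Injective j) {m : ℕ} (hm : m ≠ 0) :
    {v | v ∈ j.range ∧ v ^ m = 1}.Finite := by
  refine ((finite_torsion_un n L hm).image j).subset ?_
  rintro _ ⟨⟨u, rfl⟩, hu⟩
  rw [← map_pow, map_eq_one_iff j hj] at hu
  exact ⟨u, hu, rfl⟩

theorem div_range [IsAlgClosed L] {E : Type*} [Group E] (j : (Fin n → Lˣ) →* E) {m : ℕ} (hm : m ≠ 0) :
    ∀ v ∈ j.range, ∃ w ∈ j.range, w ^ m = v := by
  rintro _ ⟨u, rfl⟩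
  obtain ⟨v, hv⟩ := exists_root_un n L u hm
  exact ⟨j v, ⟨v, rfl⟩, by rw [← map_pow, hv]⟩

theorem comm_range {E : Type*} [Group E] (j : (Fin n → Lˣ) →* E) : ∀ a ∈ j.range, ∀ b ∈ j.range, a * b = b * a := by
  rintro _ ⟨u, rfl⟩ _ ⟨v, rfl⟩
  rw [← map_mul, ← map_mul, mul_comm]

end Units

/-- points of the split torus -/
noncomputable def pcc (k : Type u) [Field k] (n : ℕ) : (Fin n → kˣ) ≃* Pt k (MonoidAlgebra k (Multiplicative (Fin n → ℤ))) :=
  ((homE n kˣ).trans (unE (Multiplicative (Fin n → ℤ)) k)).trans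
    (MonoidAlgebra.liftMulEquiv k k (Multiplicative (Fin n → ℤ)))

variable {A : Type u} [CommRing A] [HopfAlgebra k A] [IsAlgClosed k]

/-- the parametrisation of a torus -/
noncomputable def jk {n : ℕ} (π : A →ₐc[k] MonoidAlgebra k (Multiplicative (Fin n → ℤ))) : (Fin n → kˣ) →* Pt k A :=
  (Pt.map π).comp (pcc k n).toMonoidHom

omit [IsAlgClosed k] in
theorem jk_range {n : ℕ} (π : A →ₐc[k] MonoidAlgebra k (Multiplicative (Fin n → ℤ))) : (jk π).range = (Pt.map π).range := by
  ext g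
  constructor
  · rintro ⟨u, rfl⟩
    exact ⟨_, rfl⟩
  · rintro ⟨x, rfl⟩
    obtain ⟨u, rfl⟩ := (pcc k n).surjective x
    exact ⟨u, rfl⟩

omit [IsAlgClosed k] in
theorem jk_injective {n : ℕ} (π : A →ₐc[k] MonoidAlgebra k (Multiplicative (Fin n → ℤ))) (hπ : Function.Surjective π) :
    Function.Injective (jk π) := (Pt.map_injective hπ).comp (pcc k n).injective

variable [CharZero k] [Algebra.FiniteType k A] [_root_.IsReduced A]

omit [CharZero k] in
theorem isUnipotent_quot {U : Subgroup (Pt k A)} (hUcl : IsCl (U : Set (Pt k A))) (hU : ∀ g ∈ U, IsUnip g) :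
    HopfRep.IsUnipotent k (A ⧸ vanIdeal (U : Set (Pt k A))) := by
  apply K543.UnipHopf.isUnipotent_of_isUnip
  intro g
  have h1 := hU _ (subEquiv U hUcl g).2
  exact (isUnip_map_iff (φ := Bialgebra.Quotient.mkBialgHom (R := k) (vanIdeal (U : Set (Pt k A))))
    Ideal.Quotient.mk_surjective).1 h1

theorem exists_data {T : Subgroup (Pt k A)} (hT : IsMaxTorusSub T) (hn : T.Normal) :
    ∃ U S : Subgroup (Pt k A), IsCl (U : Set (Pt k A)) ∧ IsConn (U : Set (Pt k A)) ∧ U.Normal ∧ (∀ g ∈ U, IsUnip g) ∧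
      Finite S ∧ ∀ g : Pt k A, ∃ s ∈ S, ∃ t ∈ T, ∃ u ∈ U, g = s * t * u := by
  classical
  obtain ⟨U, hUcl, hUc, hUn, hUu, hdec⟩ := K191.CartPts.exists_cartan hT hn
  obtain ⟨n, π, hπ, hTπ⟩ := hT.1
  have hTj : T = (jk π).range := hTπ.trans (jk_range π).symm
  have hnil : Group.IsNilpotent U := Groth.Agent.Agf.H611.NilPts.isNilpotent_of_isUnip hUu
  have hr : URoots U := K191.FinSup.URoots.congr (subEquiv U hUcl)
    (K191.UnipRoots.uroots (R := k) (isUnipotent_quot hUcl hUu))
  have hfi : (idComp (⊤ : Subgroup (Pt k A))).index ≠ 0 := by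
    have h1 := relIndex_idComp_ne_zero (H := (⊤ : Subgroup (Pt k A))) (fun _ _ => trivial)
    rwa [Subgroup.relIndex_top_right] at h1
  have hfin : Finite (Pt k A ⧸ idComp (⊤ : Subgroup (Pt k A))) := Subgroup.index_ne_zero_iff_finite.1 hfi
  have hFt := Fintype.ofFinite (Pt k A ⧸ idComp (⊤ : Subgroup (Pt k A)))
  obtain ⟨S, hSfin, hS⟩ := exists_sup_main T U (by rw [hTj]; exact comm_range _)
    (fun m hm => by rw [hTj]; exact div_range _ hm) (fun m hm => by rw [hTj]; exact tor_range _ (jk_injective π hπ) hm) hr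
    (fun v hvT hvU => TrigTorus.eq_one_of_isTorusSub hT.1 hvT (hUu v hvU))
    (Finset.univ.image fun q : Pt k A ⧸ idComp (⊤ : Subgroup (Pt k A)) => q.out) (by
      intro g
      let q : Pt k A ⧸ idComp (⊤ : Subgroup (Pt k A)) := QuotientGroup.mk g
      have h1 : (q.out)⁻¹ * g ∈ idComp (⊤ : Subgroup (Pt k A)) := by
        rw [← QuotientGroup.eq]
        exact Quotient.out_eq' q
      obtain ⟨t, ht, u, hu, e⟩ := hdec _ h1
      refine ⟨q.out, Finset.mem_image_of_mem _ (Finset.mem_univ q), t, ht, u, hu, ?_⟩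
      rw [_root_.mul_assoc, ← e, mul_inv_cancel_left])
  exact ⟨U, S, hUcl, hUc, hUn, hUu, hSfin, hS⟩

end K191.NormPts
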