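import Groth.Agent.NonAbH1.K191.Lp
import Groth.Agent.NonAbH1.K191.NormPts

/-!
# Groups with a normal maximal torus: geometric points over extensions
-/

set_option autoImplicit false
universe u

open CategoryTheory CategoryTheory.Limits MonoidalCategory CartesianMonoidalCategory MonObj GrpObj AlgebraicGeometry
open Groth.Agent Groth.Agent.Books.AffBridge Groth.Agent.Books.AffBridge2 Groth.Agent.Sga3B Groth.Agent.Sga3B.RG
open Groth.Agent.Sga3B.RG.BrPts K191.GalPt K191.LeviEx K191.LPts K191.TorL K191.NormPts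

namespace K191.NormL

variable {k : Type u} [Field k] [IsAlgClosed k] {A : Type u} [CommRing A] [HopfAlgebra k A] [Algebra.FiniteType k A]

section

variable {n : ℕ} (π : A →ₐc[k] MonoidAlgebra k (Multiplicative (Fin n → ℤ)))

/-- the torus -/
noncomputable abbrev iT : Tn k n ⟶ SpecOver k A := specMap k (π : A →ₐ[k] MonoidAlgebra k (Multiplicative (Fin n → ℤ)))

instance : IsMonHom (iT π) := isMonHom_specMap k π

omit [IsAlgClosed k] [Algebra.FiniteType k A] in
theorem isClosedImmersion_iT (hπ : Function.Surjective π) : IsClosedImmersion (iT π).left :=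
  (isClosedImmersion_specMap_iff k _).2 hπ

omit [IsAlgClosed k] [Algebra.FiniteType k A] in
theorem ptsSub_iT : ptsSub (iT π) = (Pt.map π).range :=
  ptsSub_eq_range (iT π) π (Iso.refl _) (Category.id_comp _)

theorem dec_L (hπ : Function.Surjective π) (S U : Subgroup (Pt k A)) [Finite S] (hU : IsCl (U : Set (Pt k A)))
    (hdec : ∀ g : Pt k A, ∃ s ∈ S, ∃ t ∈ (Pt.map π).range, ∃ u ∈ U, g = s * t * u)
    (L : Type u) [Field L] [Algebra k L] [IsAlgClosed L] (y : SpecOver k L ⟶ SpecOver k A) :
    ∃ (s : SpecOver k L ⟶ V S) (t : SpecOver k L ⟶ Tn k n) (u : SpecOver k L ⟶ V U),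
      y = (s ≫ iV S) * (t ≫ iT π) * (u ≫ iV U) := by
  have hft : ∀ (B : Type u) [CommRing B] [Algebra k B] [Algebra.FiniteType k B], LocallyOfFiniteType (SpecOver k B).hom :=
    fun B _ _ h => (locallyOfFiniteType_specOver_iff (k := k) B).2 h
  have h1 : LocallyOfFiniteType (V S).hom := hft _
  have h2 : LocallyOfFiniteType (V U).hom := hft _
  have h3' : Algebra.FiniteType k (MonoidAlgebra k (Multiplicative (Fin n → ℤ))) :=
    Algebra.FiniteType.of_surjective (π : A →ₐ[k] MonoidAlgebra k (Multiplicative (Fin n → ℤ))) hπ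
  have h3 : LocallyOfFiniteType (Tn k n).hom := hft _
  have h4 : LocallyOfFiniteType (SpecOver k A).hom := hft _
  have hqc : ∀ (B : Type u) [CommRing B] [Algebra k B], QuasiCompact (SpecOver k B).hom := fun B _ _ => by
    change QuasiCompact (Spec.map _)
    infer_instance
  have q1 := hqc (A ⧸ vanIdeal (S : Set (Pt k A)))
  have q2 := hqc (A ⧸ vanIdeal (U : Set (Pt k A)))
  have q3 := hqc (MonoidAlgebra k (Multiplicative (Fin n → ℤ)))
  have q4 := hqc A
  let X : Over (Spec (CommRingCat.of k)) := V S ⊗ (Tn k n ⊗ V U)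
  have h5' : LocallyOfFiniteType (Tn k n ⊗ V U).hom := by
    rw [Over.tensorObj_hom]
    infer_instance
  have q5' : QuasiCompact (Tn k n ⊗ V U).hom := by
    rw [Over.tensorObj_hom]
    infer_instance
  have h5 : LocallyOfFiniteType X.hom := by
    rw [Over.tensorObj_hom]
    infer_instance
  have q5 : QuasiCompact X.hom := by
    rw [Over.tensorObj_hom]
    infer_instance
  let m : X ⟶ SpecOver k A := (fst (V S) (Tn k n ⊗ V U) ≫ iV S) *
    ((snd (V S) (Tn k n ⊗ V U) ≫ fst (Tn k n) (V U)) ≫ iT π) * ((snd (V S) (Tn k n ⊗ V U) ≫ snd (Tn k n) (V U)) ≫ iV U)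
  have hm : Surjective m.left := by
    apply K398.Pts.surjective_of_forall_pt m
    intro y
    obtain ⟨g, rfl⟩ := (ptEquiv k A).surjective y
    obtain ⟨s, hs, t, ht, u, hu, rfl⟩ := hdec g
    rw [← ptsSub_iV S (isCl_of_finite _ (Set.toFinite _))] at hs
    rw [← ptsSub_iT] at ht
    rw [← ptsSub_iV U hU] at hu
    obtain ⟨s', hs'⟩ := hs
    obtain ⟨t', ht'⟩ := ht
    obtain ⟨u', hu'⟩ := hu
    refine ⟨lift s' (lift t' u'), ?_⟩
    rw [map_mul, map_mul, MonObj.comp_mul, MonObj.comp_mul, ← hs', ← ht', ← hu']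
    simp only [← Category.assoc, lift_fst, lift_snd]
  obtain ⟨x, hx⟩ := exists_lift_L m L y
  refine ⟨x ≫ fst _ _, x ≫ snd _ _ ≫ fst _ _, x ≫ snd _ _ ≫ snd _ _, ?_⟩
  rw [← hx, MonObj.comp_mul, MonObj.comp_mul]
  simp only [Category.assoc]

theorem inf_L (hπ : Function.Surjective π) (U : Subgroup (Pt k A)) (hU : IsCl (U : Set (Pt k A)))
    (hTU : ∀ g ∈ (Pt.map π).range, g ∈ U → g = 1)
    (L : Type u) [Field L] [Algebra k L] (t : SpecOver k L ⟶ Tn k n) (u : SpecOver k L ⟶ V U)
    (h : t ≫ iT π = u ≫ iV U) : t ≫ iT π = 1 := by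
  obtain ⟨t, rfl⟩ := (specEquiv k).surjective t
  obtain ⟨u, rfl⟩ := (specEquiv k).surjective u
  change specMap k t ≫ iT π = specMap k u ≫ iV U at h
  change specMap k t ≫ iT π = 1
  rw [← specMap_comp] at h ⊢
  have h' := h
  rw [iV, incl, ← specMap_comp] at h'
  have h1 := specMap_injective k h'
  let J : Ideal A := RingHom.ker (π : A →ₐ[k] MonoidAlgebra k (Multiplicative (Fin n → ℤ))) ⊔ vanIdeal (U : Set (Pt k A))
  have hz : (zeros J : Set (Pt k A)) ⊆ {1} := by
    intro g hg
    rw [Set.mem_singleton_iff]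
    apply hTU
    · rw [← SetLike.mem_coe, range_map_mk π hπ]
      intro a ha
      exact hg a (Ideal.mem_sup_left ha)
    · rw [← SetLike.mem_coe, ← hU.eq]
      intro a ha
      exact hg a (Ideal.mem_sup_right ha)
  have hJ : ∀ a ∈ J, t (π a) = 0 := by
    have h2 : J ≤ RingHom.ker (t.comp (π : A →ₐ[k] MonoidAlgebra k (Multiplicative (Fin n → ℤ)))) := by
      refine sup_le ?_ ?_
      · intro a ha
        rw [RingHom.mem_ker] at ha ⊢
        change t (π a) = 0
        rw [show π a = 0 from ha, map_zero]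
      · intro a ha
        rw [RingHom.mem_ker, h1]
        change u (Ideal.Quotient.mk _ a) = 0
        rw [Ideal.Quotient.eq_zero_iff_mem.2 ha, map_zero]
    exact fun a ha => h2 ha
  have h3 : t.comp (π : A →ₐ[k] MonoidAlgebra k (Multiplicative (Fin n → ℤ))) =
      (Algebra.ofId k L).comp (Bialgebra.counitAlgHom k A) := by
    ext a
    have h4 : a - algebraMap k A (Coalgebra.counit (R := k) a) ∈ J.radical := by
      rw [← RG.vanIdeal_zeros (K := k)]
      intro g hg
      have h5 := hz hg
      rw [Set.mem_singleton_iff] at h5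
      rw [h5]
      have h6 : (1 : Pt k A) (a - algebraMap k A (Coalgebra.counit (R := k) a)) = 0 := by
        rw [show (1 : Pt k A) (a - algebraMap k A (Coalgebra.counit (R := k) a)) =
          (1 : Pt k A) a - (1 : Pt k A) (algebraMap k A (Coalgebra.counit (R := k) a)) from map_sub (1 : Pt k A).ofConv _ _,
          show (1 : Pt k A) (algebraMap k A (Coalgebra.counit (R := k) a)) = Coalgebra.counit (R := k) a from
            (1 : Pt k A).ofConv.commutes _]
        exact sub_self _
      exact h6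
    obtain ⟨m, hm⟩ := h4
    have h7 := hJ _ hm
    rw [map_pow, map_pow] at h7
    have h9 : t (π (a - algebraMap k A (Coalgebra.counit (R := k) a))) = 0 := by
      by_contra hne
      exact pow_ne_zero m hne h7
    rw [map_sub, map_sub, sub_eq_zero] at h9
    change t (π a) = algebraMap k L (Coalgebra.counit (R := k) a)
    rw [h9]
    have h10 : π (algebraMap k A (Coalgebra.counit (R := k) a)) = algebraMap k _ (Coalgebra.counit (R := k) a) :=
      AlgHomClass.commutes π _
    rw [h10]
    exact t.commutes _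
  rw [h3]
  exact specMap_one k

end

end K191.NormL
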