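import Groth.Agent.NonAbH1.K191.GalPt

/-!
# Stabilisers of geometric points are open
-/

set_option autoImplicit false
universe u

open CategoryTheory CategoryTheory.Limits MonoidalCategory CartesianMonoidalCategory MonObj GrpObj AlgebraicGeometry
open K191.GalPt

namespace K191.OpenStab

variable {K L : Type u} [Field K] [Field L] [Algebra K L] {P : Over (Spec (CommRingCat.of K))}

theorem exists_fix [IsAffine P.left] [LocallyOfFiniteType P.hom] (x : Om K L ⟶ P) :
    ∃ s : Finset L, ∀ σ : L ≃ₐ[K] L, (∀ z ∈ s, σ z = z) → gs σ ≫ x = x := by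
  classical
  let e := P.left.isoSpec
  let C := Γ(P.left, ⊤)
  let q : Spec C ⟶ Spec (CommRingCat.of K) := e.inv ≫ P.hom
  let φ : CommRingCat.of K ⟶ C := Spec.preimage q
  have hφ : Spec.map φ = q := Spec.map_preimage q
  let _ : Algebra K C := φ.hom.toAlgebra
  have hft : Algebra.FiniteType K C := by
    have h1 : LocallyOfFiniteType (Spec.map φ) := by rw [hφ]; infer_instance
    exact (HasRingHomProperty.Spec_iff (P := @LocallyOfFiniteType)).1 h1
  obtain ⟨f, hf⟩ : ∃ f : C →ₐ[K] L, x.left = Spec.map (CommRingCat.ofHom (f : C →+* L)) ≫ e.inv := by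
    obtain ⟨zl, hzl⟩ : ∃ zl : Spec (CommRingCat.of L) ⟶ P.left, zl = x.left := ⟨_, rfl⟩
    have hzw : zl ≫ P.hom = Spec.map (CommRingCat.ofHom (algebraMap K L)) := by
      rw [hzl]
      exact Over.w x
    let g : C ⟶ CommRingCat.of L := Spec.preimage (zl ≫ e.hom)
    have hg : Spec.map g = zl ≫ e.hom := Spec.map_preimage _
    have h1 : φ ≫ g = CommRingCat.ofHom (algebraMap K L) := by
      apply Spec.map_injective
      rw [Spec.map_comp, hg, hφ, ← hzw]
      change (zl ≫ e.hom) ≫ e.inv ≫ P.hom = _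
      rw [Category.assoc, Iso.hom_inv_id_assoc]
    refine ⟨{ g.hom with commutes' := fun c => congrArg (fun f => f.hom c) h1 }, ?_⟩
    have h2 : Spec.map g ≫ e.inv = zl := by rw [hg, Category.assoc, Iso.hom_inv_id, Category.comp_id]
    exact (h2.trans hzl).symm
  obtain ⟨S, hS⟩ := hft.out
  refine ⟨S.image f, fun σ hσ => ?_⟩
  have h1 : (σ : L →ₐ[K] L).comp f = f := by
    refine AlgHom.ext_of_adjoin_eq_top hS fun c hc => ?_
    exact hσ _ (Finset.mem_image_of_mem f hc)
  ext1
  change Spec.map (CommRingCat.ofHom (σ : L →+* L)) ≫ x.left = x.left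
  have h3 := congrArg (fun w => Spec.map (CommRingCat.ofHom (σ : L →+* L)) ≫ w) hf
  refine h3.trans ?_
  change Spec.map (CommRingCat.ofHom (σ : L →+* L)) ≫ Spec.map (CommRingCat.ofHom (f : C →+* L)) ≫ e.inv = _
  rw [← Category.assoc, ← Spec.map_comp]
  have h4 : CommRingCat.ofHom (f : C →+* L) ≫ CommRingCat.ofHom (σ : L →+* L) = CommRingCat.ofHom (f : C →+* L) := by
    ext c
    exact AlgHom.congr_fun h1 c
  rw [h4]
  exact hf.symm

end K191.OpenStab
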