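import Groth.Agent.NonAbH1.K191.FinSup

/-!
# Uniform finite reduction of the structure group: the group theory

`N = Σ T U`, `T` a divisible abelian normal subgroup with pointwise fixed torsion, `U` nilpotent uniquely divisible, `Σ` finite and
pointwise fixed; `X` a simply transitive `N`-set with compatible symmetries and finite orbits, satisfying Hilbert 90 for `T`.
-/

set_option autoImplicit false

namespace K191.Uniform

open Subgroup K191.GrpStep K191.FinSup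

variable {N X Γ : Type*} [Group N] [MulAction N X] [Group Γ] {α : Γ → N ≃* N} {β : Γ → X → X}

theorem mem_supR (H V : Subgroup N) [V.Normal] {g : N} : g ∈ H ⊔ V ↔ ∃ h ∈ H, ∃ v ∈ V, g = h * v := by
  rw [← SetLike.mem_coe, Subgroup.mul_normal]
  constructor
  · rintro ⟨h, hh, v, hv, rfl⟩
    exact ⟨h, hh, v, hv, rfl⟩
  · rintro ⟨h, hh, v, hv, rfl⟩
    exact ⟨h, hh, v, hv, rfl⟩

theorem comm_of_inf (T U : Subgroup N) [T.Normal] [U.Normal] (hTU : ∀ v ∈ T, v ∈ U → v = 1) {t u : N} (ht : t ∈ T)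
    (hu : u ∈ U) : t * u = u * t := by
  rw [← mul_inv_eq_one, mul_inv_rev, ← mul_assoc]
  apply hTU
  · have h1 := ‹T.Normal›.conj_mem _ (T.inv_mem ht) u
    have h2 := T.mul_mem ht h1
    convert h2 using 1
    group
  · have h1 := ‹U.Normal›.conj_mem _ hu t
    have h2 := U.mul_mem h1 (U.inv_mem hu)
    convert h2 using 1

/-- elements of `Σ T` and of `Σ U` -/
theorem torsion_of (S T U : Subgroup N) [T.Normal] [U.Normal] (hTU : ∀ v ∈ T, v ∈ U → v = 1) (d : ℕ)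
    (hS : ∀ s ∈ S, s ^ d = 1) {t u : N} (ht : t ∈ T) (hu : u ∈ U) (h : t * u ∈ S) : t ^ d = 1 ∧ u ^ d = 1 := by
  have h1 := hS _ h
  have h2 : Commute t u := comm_of_inf T U hTU ht hu
  rw [h2.mul_pow] at h1
  have h3 : t ^ d = (u ^ d)⁻¹ := eq_inv_of_mul_eq_one_left h1
  have h4 : t ^ d = 1 := hTU _ (T.pow_mem ht d) (by rw [h3]; exact U.inv_mem (U.pow_mem hu d))
  refine ⟨h4, ?_⟩
  rw [h4, one_mul] at h1
  exact h1

omit [Group Γ] in
theorem stab_sup {S V : Subgroup N} [V.Normal] (hS : ∀ γ, ∀ s ∈ S, α γ s = s) (hV : Stab α V) : Stab α (S ⊔ V) := by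
  have key : ∀ (γ : Γ) (v : N), v ∈ S ⊔ V → α γ v ∈ S ⊔ V := by
    intro γ v hv
    obtain ⟨s, hs, w, hw, rfl⟩ := (mem_supR S V).1 hv
    refine (mem_supR S V).2 ⟨s, hs, α γ w, (hV γ w).2 hw, ?_⟩
    rw [map_mul, hS γ s hs]
  intro γ v
  refine ⟨fun h => ?_, key γ v⟩
  obtain ⟨s, hs, w, hw, e⟩ := (mem_supR S V).1 h
  have h1 : v = s * (α γ).symm w := by
    apply (α γ).injective
    rw [map_mul, hS γ s hs, MulEquiv.apply_symm_apply, e]
  rw [h1]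
  exact (mem_supR S V).2 ⟨s, hs, _, (hV γ _).1 (by rw [MulEquiv.apply_symm_apply]; exact hw), rfl⟩

theorem main (h : Sym α β) (hβ : ∀ γ γ' x, β (γ * γ') x = β γ (β γ' x)) (hβ1 : ∀ x, β 1 x = x)
    (S T U : Subgroup N) [T.Normal] [U.Normal] (hc : ∀ a ∈ T, ∀ b ∈ T, a * b = b * a)
    (hdiv : ∀ n : ℕ, n ≠ 0 → ∀ v ∈ T, ∃ w ∈ T, w ^ n = v)
    [Group.IsNilpotent U] (hr : URoots U) (hTU : ∀ v ∈ T, v ∈ U → v = 1)
    (hT : Stab α T) (hU : Stab α U) (hSf : ∀ γ, ∀ s ∈ S, α γ s = s) [Finite S]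
    (hdec : ∀ g : N, ∃ s ∈ S, ∃ t ∈ T, ∃ u ∈ U, g = s * t * u)
    (hfin : ∀ x : X, ∃ O : Finset X, x ∈ O ∧ FinSt β O)
    (H90 : ∀ x : X, ∃ t ∈ T, ∀ γ, (∃ t' ∈ T, β γ x = t' • x) → β γ (t • x) = t • x) (x₀ : X) :
    ∃ y : X, ∀ γ, ∃ s ∈ S, ∃ t ∈ T, t ^ ((Nat.card S).factorial * Nat.card S) = 1 ∧ β γ y = (s * t) • y := by
  classical
  let d := Nat.card S
  have hd : d ≠ 0 := Nat.card_pos.ne'
  have hSd : ∀ s ∈ S, s ^ d = 1 := by
    intro s hs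
    have h1 : (⟨s, hs⟩ : S) ^ d = 1 := pow_card_eq_one'
    exact congrArg Subtype.val h1
  let n := d.factorial * d
  have hn : n ≠ 0 := Nat.mul_ne_zero d.factorial_ne_zero hd
  -- first step
  obtain ⟨u, hu, hux⟩ := unip h (S ⊔ T) U hr (stab_sup hSf hT) hU (by
      intro v hv hvU
      obtain ⟨s, hs, t, ht, rfl⟩ := (mem_supR S T).1 hv
      have h1 : s = t⁻¹ * (t * (s * t) * t⁻¹) := by group
      have h2 := (torsion_of S T U hTU d hSd (T.inv_mem ht) (‹U.Normal›.conj_mem _ hvU t) (by rw [← h1]; exact hs)).2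
      have h3 : (⟨t * (s * t) * t⁻¹, ‹U.Normal›.conj_mem _ hvU t⟩ : U) = 1 := (hr d hd).1 (by
        change _ ^ d = 1 ^ d
        rw [one_pow]
        exact Subtype.ext h2)
      have h4 : t * (s * t) * t⁻¹ = 1 := congrArg Subtype.val h3
      rw [mul_inv_eq_one, mul_eq_left] at h4
      exact h4) hfin x₀ (by
      intro γ
      obtain ⟨g, hg⟩ := h.trans x₀ (β γ x₀)
      obtain ⟨s, hs, t, ht, u, hu, rfl⟩ := hdec g
      exact ⟨s * t, (mem_supR S T).2 ⟨s, hs, t, ht, rfl⟩, u, hu, hg.symm⟩)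
  -- Hilbert 90
  obtain ⟨x₁, hx₁⟩ : ∃ x₁, x₁ = u • x₀ := ⟨_, rfl⟩
  rw [← hx₁] at hux
  obtain ⟨t₁, ht₁, hfix⟩ := H90 x₁
  obtain ⟨x, hx⟩ : ∃ x, x = t₁ • x₁ := ⟨_, rfl⟩
  rw [← hx] at hfix
  have hx1 : ∀ γ, (∃ t ∈ T, β γ x = t • x) → β γ x = x := by
    rintro γ ⟨t, ht, e⟩
    apply hfix
    refine ⟨(α γ t₁)⁻¹ * t * t₁, T.mul_mem (T.mul_mem (T.inv_mem ((hT γ t₁).2 ht₁)) ht) ht₁, ?_⟩
    have e' : α γ t₁ • β γ x₁ = t • t₁ • x₁ := by rw [← h.compat, ← hx]; exact e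
    rw [mul_smul, mul_smul, ← e', inv_smul_smul]
  have hx2 : ∀ γ, ∃ s ∈ S, ∃ t ∈ T, β γ x = (s * t) • x := by
    intro γ
    obtain ⟨m, hm, e⟩ := hux γ
    obtain ⟨s, hs, t, ht, rfl⟩ := (mem_supR S T).1 hm
    refine ⟨s, hs, s⁻¹ * α γ t₁ * s * t * t₁⁻¹, ?_, ?_⟩
    · refine T.mul_mem (T.mul_mem ?_ ht) (T.inv_mem ht₁)
      have h1 := ‹T.Normal›.conj_mem _ ((hT γ t₁).2 ht₁) s⁻¹
      rwa [inv_inv] at h1
    · rw [hx, h.compat, e, ← mul_smul, ← mul_smul]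
      congr 1
      group
  choose s hs t ht hst using hx2
  have hx3 : ∀ γ γ', s γ = s γ' → β γ x = β γ' x := by
    intro γ γ' e
    have h1 : β γ' x = (s γ * (t γ' * (t γ)⁻¹) * (s γ)⁻¹) • β γ x := by
      rw [hst γ, hst γ', ← mul_smul, e]
      congr 1
      group
    have h2 : β (γ⁻¹ * γ') x = (α γ⁻¹ (s γ * (t γ' * (t γ)⁻¹) * (s γ)⁻¹)) • x := by
      rw [hβ, h1, h.compat, ← hβ, inv_mul_cancel, hβ1]
    have h3 := hx1 (γ⁻¹ * γ') ⟨_, (hT γ⁻¹ _).2 (‹T.Normal›.conj_mem _ (T.mul_mem (ht γ') (T.inv_mem (ht γ))) _), h2⟩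
    have h4 : β γ (β (γ⁻¹ * γ') x) = β γ' x := by rw [← hβ, mul_inv_cancel_left]
    rw [← h4, h3]
  let F : Γ → S := fun γ => ⟨s γ, hs γ⟩
  let _ : Fintype S := Fintype.ofFinite S
  -- the orbit
  have hOfin : (Set.range fun γ => β γ x).Finite := by
    have h1 : (Set.range fun γ => β γ x) ⊆ Set.range (fun z : Set.range F => β z.2.choose x) := by
      rintro _ ⟨γ, rfl⟩
      refine ⟨⟨F γ, ⟨γ, rfl⟩⟩, ?_⟩
      have h2 : F (⟨F γ, ⟨γ, rfl⟩⟩ : Set.range F).2.choose = F γ := (⟨F γ, ⟨γ, rfl⟩⟩ : Set.range F).2.choose_spec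
      exact hx3 _ _ (congrArg Subtype.val h2)
    exact (Set.finite_range _).subset h1
  let O : Finset X := hOfin.toFinset
  have hmemO : ∀ z, z ∈ O ↔ ∃ γ, β γ x = z := fun z => by simp [O]
  have hOst : FinSt β O := by
    intro γ z hz
    obtain ⟨γ', rfl⟩ := (hmemO z).1 hz
    exact (hmemO _).2 ⟨γ * γ', hβ _ _ _⟩
  have hxO : x ∈ O := (hmemO x).2 ⟨1, hβ1 x⟩
  have hOcard : O.card ≤ d := by
    choose! g hg using fun z => (hmemO z).1
    have h1 : Set.InjOn (fun z => F (g z)) (O : Set X) := by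
      intro z hz z' hz' e
      rw [← hg z hz, ← hg z' hz']
      exact hx3 _ _ (congrArg Subtype.val e)
    have h2 := Finset.card_le_card_of_injOn (s := O) (t := (Finset.univ : Finset S)) (fun z => F (g z))
      (fun z _ => Finset.mem_coe.2 (Finset.mem_univ _)) h1
    rw [Finset.card_univ, ← Nat.card_eq_fintype_card] at h2
    exact h2
  have hO0 : O.card ≠ 0 := Finset.card_ne_zero_of_mem hxO
  -- averaging
  obtain ⟨b, hb, hbγ⟩ := step h (S ⊔ U) T ⊥ (by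
      intro a ha b hb
      rw [mem_bot, hc a ha b hb]
      group) (stab_sup hSf hU) hT (by
      intro γ v
      rw [mem_bot, mem_bot]
      exact map_eq_one_iff _ (α γ).injective) x O hOst (by
      intro a ha
      obtain ⟨b, hb, e⟩ := hdiv _ hO0 a ha
      exact ⟨b, hb, by rw [e, mul_inv_cancel]; exact one_mem _⟩) (by
      intro γ
      exact ⟨s γ, (mem_supR S U).2 ⟨s γ, hs γ, 1, U.one_mem, (mul_one _).symm⟩, t γ, ht γ, hst γ⟩) (by
      intro z hz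
      obtain ⟨γ, rfl⟩ := (hmemO z).1 hz
      exact ⟨s γ, (mem_supR S U).2 ⟨s γ, hs γ, 1, U.one_mem, (mul_one _).symm⟩, t γ, ht γ, hst γ⟩)
  obtain ⟨y, hy₀⟩ : ∃ y, y = b • x := ⟨_, rfl⟩
  rw [← hy₀] at hbγ
  have hy : ∀ γ, ∃ s ∈ S, ∃ q ∈ T, q ^ n = 1 ∧ ∃ v ∈ U, β γ y = (s * q * v) • y := by
    intro γ
    obtain ⟨m, hm, q, hq, e, w, ⟨hw1, hw2⟩, hqw⟩ := hbγ γ
    obtain ⟨s, hs, v, hv, rfl⟩ := (mem_supR S U).1 hm
    refine ⟨s, hs, q, hq, ?_, v, hv, ?_⟩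
    · rw [mem_bot] at hqw
      obtain ⟨s', hs', v', hv', rfl⟩ := (mem_supR S U).1 hw1
      have h1 : s' = (s' * v') * v'⁻¹ := by group
      have h2 := (torsion_of S T U hTU d hSd hw2 (U.inv_mem hv') (by rw [← h1]; exact hs')).1
      have h3 : q ^ O.card = (s' * v')⁻¹ := eq_inv_of_mul_eq_one_left hqw
      have h4 : q ^ (O.card * d) = 1 := by rw [pow_mul, h3, inv_pow, h2, inv_one]
      obtain ⟨k, hk⟩ := Nat.dvd_factorial (Nat.pos_of_ne_zero hO0) hOcard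
      have h5 : n = (O.card * d) * k := by
        change d.factorial * d = _
        rw [hk]
        ring
      rw [h5, pow_mul, h4, one_pow]
    · rw [e, mul_assoc, mul_assoc, comm_of_inf T U hTU hq hv]
  -- the finite group
  let Tn := tor T hc n
  have hTnU : ∀ (s q v : N), s ∈ S → q ∈ T → v ∈ U → s * q = v → v = 1 := by
    intro s q v hs hq hv e
    have h1 : s = q⁻¹ * (q * v * q⁻¹) := by rw [← e]; group
    have h2 := (torsion_of S T U hTU d hSd (T.inv_mem hq) (‹U.Normal›.conj_mem _ hv q) (by rw [← h1]; exact hs)).2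
    have h3 : (⟨q * v * q⁻¹, ‹U.Normal›.conj_mem _ hv q⟩ : U) = 1 := (hr d hd).1 (by
      change _ ^ d = 1 ^ d
      rw [one_pow]
      exact Subtype.ext h2)
    have h4 : q * v * q⁻¹ = 1 := congrArg Subtype.val h3
    rw [mul_inv_eq_one, mul_eq_left] at h4
    exact h4
  have hTn : Stab α Tn := by
    intro γ v
    rw [mem_tor, mem_tor, ← map_pow, map_eq_one_iff _ (α γ).injective, hT]
  obtain ⟨u', hu', huy⟩ := unip h (S ⊔ Tn) U hr (stab_sup hSf hTn) hU (by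
      intro v hv hvU
      obtain ⟨s, hs, q, hq, e⟩ := (mem_supR S Tn).1 hv
      exact hTnU s q v hs hq.1 hvU e.symm) hfin y (by
      intro γ
      obtain ⟨s, hs, q, hq, hq', v, hv, e⟩ := hy γ
      exact ⟨s * q, (mem_supR S Tn).2 ⟨s, hs, q, ⟨hq, hq'⟩, rfl⟩, v, hv, e⟩)
  refine ⟨u' • y, fun γ => ?_⟩
  obtain ⟨m, hm, e⟩ := huy γ
  obtain ⟨s, hs, q, hq, rfl⟩ := (mem_supR S Tn).1 hm
  exact ⟨s, hs, q, hq.1, hq.2, e⟩

end K191.Uniform
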