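import Groth.Agent.NonAbH1.K191.NormL
import Groth.Agent.NonAbH1.K191.Uniform
import Groth.Agent.NonAbH1.K191.H90
import Groth.Agent.NonAbH1.K191.OpenStab

/-!
# Torsors under groups with a normal maximal torus come from a finite subgroup
-/

set_option autoImplicit false
universe u

open CategoryTheory CategoryTheory.Limits MonoidalCategory CartesianMonoidalCategory MonObj GrpObj AlgebraicGeometry
open Groth.Agent Groth.Agent.Books.AffBridge Groth.Agent.Books.AffBridge2 Groth.Agent.Sga3B Groth.Agent.Sga3B.RG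
open Groth.Agent.Books.BorelOrb K554.Fpqc
open Groth.Agent.Sga3B.RG.BrPts K191.GalPt K191.LeviEx K191.LPts K191.TorL K191.NormPts K191.Lp K191.NormL K191.GrpStep
open K191.FinSup

namespace K191.NormMain

variable {k : Type u} [Field k] [IsAlgClosed k] [CharZero k] {A : Type u} [CommRing A] [HopfAlgebra k A]
  [Algebra.FiniteType k A] [_root_.IsReduced A]

section PC

variable (K L : Type u) [Field K] [Field L] [Algebra k K] [Algebra K L]
variable {X Y : Over (Spec (CommRingCat.of k))} [GrpObj X] [GrpObj Y] (i : X ⟶ Y) [IsMonHom i]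

/-- composition with a homomorphism, on base changes -/
noncomputable def pcb : (Om K L ⟶ Red.bc (ff k K) X) →* (Om K L ⟶ Red.bc (ff k K) Y) :=
  pc ((Over.pullback (ff k K)).map i) (Om K L)

omit [IsAlgClosed k] [CharZero k] in
lemma pcb_apply (x : Om K L ⟶ Red.bc (ff k K) X) : pcb K L i x = x ≫ (Over.pullback (ff k K)).map i := rfl

/-- the image of a homomorphism -/
noncomputable def rg : Subgroup (Om K L ⟶ Red.bc (ff k K) Y) := (pcb K L i).range

omit [IsAlgClosed k] [CharZero k] in
lemma mem_rg (g : Om K L ⟶ Red.bc (ff k K) Y) : g ∈ rg K L i ↔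
    ∃ x : Om K L ⟶ Red.bc (ff k K) X, x ≫ (Over.pullback (ff k K)).map i = g := Iff.rfl

omit [IsAlgClosed k] [CharZero k] in
theorem normal_pcb (h : AlgGrp.IsNormalHom i) : (rg K L i).Normal :=
  normal_range ((Over.pullback (ff k K)).map i) (Sga3B.NormBc.isNormalHom_bc (ff k K) _ h) (Om K L)

omit [IsAlgClosed k] [CharZero k] in
theorem stab_pcb : Stab (ga (L := L) (Red.bc (ff k K) Y)) (rg K L i) :=
  stab (L := L) ((Over.pullback (ff k K)).map i)

omit [IsAlgClosed k] [CharZero k] in
theorem injective_pcb [Mono i] : Function.Injective (pcb K L i) :=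
  injective_pc ((Over.pullback (ff k K)).map i) (Om K L)

/-- the source of a monomorphism is its image -/
noncomputable def eRg [Mono i] : (Om K L ⟶ Red.bc (ff k K) X) ≃* rg K L i := MonoidHom.ofInjective (injective_pcb K L i)

end PC

section

variable {n : ℕ} (π : A →ₐc[k] MonoidAlgebra k (Multiplicative (Fin n → ℤ)))
variable (K L : Type u) [Field K] [Field L] [Algebra k K] [Algebra K L] [Algebra k L] [IsScalarTower k K L]

/-- the parametrisation of the torus -/
noncomputable def jT : (Fin n → Lˣ) →* (Om K L ⟶ Red.bc (ff k K) (SpecOver k A)) :=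
  (pcb K L (iT π)).comp
    ((lp k K L (Tn k n)).symm.toMonoidHom.comp (cc k n L).toMonoidHom)

omit [IsAlgClosed k] [CharZero k] [Algebra.FiniteType k A] [_root_.IsReduced A] in
lemma lp_jT (u : Fin n → Lˣ) : lp k K L (SpecOver k A) (jT π K L u) = cc k n L u ≫ iT π := by
  change lp k K L (SpecOver k A) ((lp k K L (Tn k n)).symm (cc k n L u) ≫ (Over.pullback (ff k K)).map (iT π)) = _
  rw [lp_comp, MulEquiv.apply_symm_apply]

omit [IsAlgClosed k] [CharZero k] [Algebra.FiniteType k A] [_root_.IsReduced A] in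
theorem jT_injective (hπ : Function.Surjective π) : Function.Injective (jT π K L) := by
  have h1 := isClosedImmersion_iT π hπ
  have h2 : Mono (iT π) := by
    have : Mono ((Over.forget _).map (iT π)) := inferInstanceAs (Mono (iT π).left)
    exact (Over.forget _).mono_of_mono_map this
  intro u v h
  have h3 := congrArg (lp k K L (SpecOver k A)) h
  rw [lp_jT, lp_jT] at h3
  exact (cc k n L).injective ((cancel_mono (iT π)).1 h3)

omit [IsAlgClosed k] [CharZero k] [Algebra.FiniteType k A] [_root_.IsReduced A] in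
theorem jT_range : (jT π K L).range = rg K L (iT π) := by
  ext g
  constructor
  · rintro ⟨u, rfl⟩
    exact ⟨_, rfl⟩
  · rintro ⟨x, rfl⟩
    obtain ⟨u, hu⟩ := (cc k n L).surjective (lp k K L (Tn k n) x)
    refine ⟨u, ?_⟩
    change (lp k K L (Tn k n)).symm (cc k n L u) ≫ (Over.pullback (ff k K)).map (iT π) = _
    rw [hu, MulEquiv.symm_apply_apply]
    rfl

omit [IsAlgClosed k] [CharZero k] [Algebra.FiniteType k A] [_root_.IsReduced A] in
theorem ga_jT (σ : L ≃ₐ[K] L) (u : Fin n → Lˣ) :
    ga (Red.bc (ff k K) (SpecOver k A)) σ (jT π K L u) = jT π K L (fun i => Units.map (σ : L →* L) (u i)) := by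
  apply (lp k K L (SpecOver k A)).injective
  rw [ga_apply, gs_lp, lp_jT, lp_jT, ← Category.assoc, gk, cc_comp]
  rfl

end

section Main

variable {n : ℕ} (π : A →ₐc[k] MonoidAlgebra k (Multiplicative (Fin n → ℤ))) (hπ : Function.Surjective π)
  (hTn : (Pt.map π).range.Normal) (U S : Subgroup (Pt k A)) (hUcl : IsCl (U : Set (Pt k A)))
  (hUc : IsConn (U : Set (Pt k A))) (hUn : U.Normal) (hUu : ∀ g ∈ U, IsUnip g) [Finite S]
  (hdec : ∀ g : Pt k A, ∃ s ∈ S, ∃ t ∈ (Pt.map π).range, ∃ u ∈ U, g = s * t * u)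

include hπ hTn hUcl hUn hUu hdec

theorem exists_y (K L : Type u) [Field K] [Field L] [Algebra k K] [Algebra K L] [Algebra k L] [IsScalarTower k K L]
    [IsAlgClosed L] [Algebra.IsAlgebraic K L] {P : Over (Spec (CommRingCat.of K))}
    {a : AlgGrp.Action (Red.bc (ff k K) (SpecOver k A)) P} (ha : NonAbH1.IsPseudoTorsorSch a)
    [IsAffine P.left] [LocallyOfFiniteType P.hom] (x₀ : Om K L ⟶ P) :
    ∃ y : Om K L ⟶ P, ∀ σ : L ≃ₐ[K] L, ∃ p : Pt k A, (∃ s ∈ S, ∃ t ∈ (Pt.map π).range,
      t ^ ((Nat.card S).factorial * Nat.card S) = 1 ∧ p = s * t) ∧ gs σ ≫ y = sm a (cst K L A p) y := by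
  classical
  have : CharZero K := charZero_of_injective_algebraMap (algebraMap k K).injective
  letI := ptAct a (Om K L)
  have hftA : LocallyOfFiniteType (SpecOver k A).hom := (locallyOfFiniteType_specOver_iff k A).2 inferInstance
  have hsmA : Smooth (SpecOver k A).hom := Groth.Agent.S0353.result k _
  have hftT : LocallyOfFiniteType (Tn k n).hom := (locallyOfFiniteType_specOver_iff k _).2
    (Algebra.FiniteType.of_surjective (π : A →ₐ[k] MonoidAlgebra k (Multiplicative (Fin n → ℤ))) hπ)
  have hsmT : Smooth (Tn k n).hom := Groth.Agent.S0353.result k _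
  have hftU : LocallyOfFiniteType (V U).hom := (locallyOfFiniteType_specOver_iff k _).2 inferInstance
  have hsmU : Smooth (V U).hom := Groth.Agent.S0353.result k _
  have hclT := isClosedImmersion_iT π hπ
  -- normality
  have hnT : AlgGrp.IsNormalHom (iT π) := isNormalHom_of_normal (iT π) (by rw [ptsSub_iT]; exact hTn)
  have hnU : AlgGrp.IsNormalHom (iV U) := isNormalHom_of_normal (iV U) (by rw [ptsSub_iV U hUcl]; exact hUn)
  let TL := (jT π K L).range
  let UL := rg K L (iV U)
  let SL := S.map (cst K L A)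
  have hTLn : TL.Normal := by
    have h1 := normal_pcb K L (iT π) hnT
    rwa [← jT_range] at h1
  have hULn : UL.Normal := normal_pcb K L (iV U) hnU
  have hTst : Stab (ga (L := L) (Red.bc (ff k K) (SpecOver k A))) TL := by
    have h1 := stab_pcb K L (iT π)
    rwa [← jT_range] at h1
  have hUst : Stab (ga (L := L) (Red.bc (ff k K) (SpecOver k A))) UL := stab_pcb K L (iV U)
  -- the unipotent part
  have hUunip := isUnipotent_quot hUcl hUu
  have hmU : Mono (iV U) := by
    have : Mono ((Over.forget _).map (iV U)) := inferInstanceAs (Mono (iV U).left)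
    exact (Over.forget _).mono_of_mono_map this
  let eU : (Om K L ⟶ Red.bc (ff k K) (V U)) ≃* UL := eRg K L (iV U)
  have hnil : Group.IsNilpotent UL := by
    obtain ⟨N, hN⟩ := K543.UnipPts.lowerCentralSeries_eq_bot_of_isUnipotent hUunip (Iso.refl (V U))
    have h1 : Group.IsNilpotent (SpecOver k L ⟶ V U) := by
      rw [Subgroup.nilpotent_iff_lowerCentralSeries]
      exact ⟨N, hN _⟩
    exact (Group.isNilpotent_congr ((lp k K L (V U)).symm.trans eU)).1 h1
  have hr : URoots UL := by
    have h1 := K191.UnipRoots.uroots (R := L) hUunip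
    exact K191.FinSup.URoots.congr ((rptEquiv k _ L).trans ((lp k K L (V U)).symm.trans eU)) h1
  have hTU0 : ∀ g ∈ (Pt.map π).range, g ∈ U → g = 1 := fun g hg hgU =>
    TrigTorus.eq_one_of_isTorusSub ⟨n, π, hπ, rfl⟩ hg (hUu g hgU)
  have hTU : ∀ v ∈ TL, v ∈ UL → v = 1 := by
    rintro _ ⟨t, rfl⟩ ⟨u, hu⟩
    apply (lp k K L (SpecOver k A)).injective
    have h1 : cc k n L t ≫ iT π = lp k K L (V U) u ≫ iV U := by
      rw [← lp_jT π K L, ← hu, ← lp_comp (K := K)]
      rfl
    rw [lp_jT, map_one]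
    exact inf_L π hπ U hUcl hTU0 L _ _ h1
  have hSfin : Finite SL := Finite.of_surjective ((cst K L A).subgroupMap S) ((cst K L A).subgroupMap_surjective S)
  have hcard : Nat.card SL = Nat.card S :=
    (Nat.card_congr (S.equivMapOfInjective (cst K L A) (cst_injective (K := K) (L := L))).toEquiv).symm
  obtain ⟨y, hy⟩ := K191.Uniform.main (sym (L := L) ha) (fun σ σ' x => by
      change gs (σ * σ') ≫ x = gs σ ≫ gs σ' ≫ x
      rw [← Category.assoc, gs_comp]
      rfl) (fun x => by
      change gs (AlgEquiv.refl) ≫ x = x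
      rw [gs_refl, Category.id_comp]) SL TL UL (comm_range _) (fun m hm => div_range _ hm) hr hTU hTst hUst (by
      rintro σ _ ⟨p, -, rfl⟩
      exact gs_cst σ p) (by
      intro g
      obtain ⟨s, t, u, hstu⟩ := dec_L π hπ S U hUcl hdec L (lp k K L (SpecOver k A) g)
      have hfS := finite_quot S
      obtain ⟨p, hp⟩ := exists_const L s
      obtain ⟨t', ht'⟩ := (cc k n L).surjective t
      obtain ⟨u', hu'⟩ := (lp k K L (V U)).surjective u
      obtain ⟨p', hp'⟩ := (rptEquiv k A k).surjective (p ≫ iV S)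
      have hp'S : p' ∈ S := by
        rw [← ptsSub_iV S (isCl_of_finite _ (Set.toFinite _))]
        refine ⟨(unitIso k).hom ≫ p, ?_⟩
        rw [Category.assoc, ← hp']
        rfl
      refine ⟨cst K L A p', ⟨p', hp'S, rfl⟩, jT π K L t', ⟨t', rfl⟩,
        u' ≫ (Over.pullback (ff k K)).map (iV U), ⟨u', rfl⟩, ?_⟩
      apply (lp k K L (SpecOver k A)).injective
      rw [map_mul, map_mul, lp_jT, lp_comp, lp_cst, ht', hu', hstu]
      congr 2
      have h1 : specMap k p'.ofConv = p ≫ iV S := hp'
      rw [h1, ← Category.assoc]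
      congr 1
      exact hp.symm) (fun x => exists_finset x) (fun x => by
      obtain ⟨s, hs⟩ := OpenStab.exists_fix x
      exact K191.H90.main (sym (L := L) ha) (fun σ σ' x => by
        change gs (σ * σ') ≫ x = gs σ ≫ gs σ' ≫ x
        rw [← Category.assoc, gs_comp]
        rfl) (fun x => by
        change gs (AlgEquiv.refl) ≫ x = x
        rw [gs_refl, Category.id_comp]) (jT π K L) (jT_injective π K L hπ) (ga_jT π K L) x s hs) x₀
  rw [hcard] at hy
  have hN : (Nat.card S).factorial * Nat.card S ≠ 0 := Nat.mul_ne_zero (Nat.factorial_ne_zero _) Nat.card_pos.ne'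
  refine ⟨y, fun σ => ?_⟩
  obtain ⟨_, ⟨p, hp, rfl⟩, _, ⟨t, rfl⟩, ht, e⟩ := hy σ
  rw [← map_pow, map_eq_one_iff _ (jT_injective π K L hπ)] at ht
  obtain ⟨q, hq⟩ := TorL.exists_const (cc k n L t) hN (by rw [← map_pow, ht, map_one])
  obtain ⟨q', hq'⟩ := (rptEquiv k _ k).surjective q
  have h1 : cst K L A (Pt.map π q') = jT π K L t := by
    apply (lp k K L (SpecOver k A)).injective
    rw [lp_cst, lp_jT, ← hq, ← hq', Category.assoc]
    congr 1
    rw [rptEquiv_apply, iT, ← specMap_comp]
    rfl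
  refine ⟨p * Pt.map π q', ⟨p, hp, Pt.map π q', ⟨q', rfl⟩, ?_, rfl⟩, ?_⟩
  · apply cst_injective (K := K) (L := L)
    rw [map_pow, h1, ← map_pow, ht, map_one, map_one]
  · rw [map_mul, h1]
    exact e

end Main

end K191.NormMain
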