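import Groth.Agent.NonAbH1.K191.NormMain

/-!
# Torsors under a group with a normal maximal torus come from a finite subgroup: scheme form
-/

set_option autoImplicit false
universe u

open CategoryTheory CategoryTheory.Limits MonoidalCategory CartesianMonoidalCategory MonObj GrpObj AlgebraicGeometry
open Groth.Agent Groth.Agent.Books.AffBridge Groth.Agent.Books.AffBridge2 Groth.Agent.Sga3B Groth.Agent.Sga3B.RG
open Groth.Agent.Books.BorelOrb K554.Fpqc
open Groth.Agent.Sga3B.RG.BrPts K191.GalPt K191.LeviEx K191.LPts K191.TorL K191.NormPts K191.Lp K191.NormL K191.GrpStep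
open K191.FinSup K191.NormMain

namespace K191.NormTors

section Restrict

variable {S : Scheme.{u}} {G H P : Over S} [GrpObj G] [GrpObj H]

theorem isPseudoTorsorSch_restrict (φ : H ⟶ G) [IsMonHom φ] [IsIso φ] {a : AlgGrp.Action G P}
    (ha : NonAbH1.IsPseudoTorsorSch a) : NonAbH1.IsPseudoTorsorSch (a.restrict φ) := by
  rw [isPseudoTorsorSch_iff]
  intro T x y
  refine ⟨dif ha x y ≫ inv φ, ?_, ?_⟩
  · change sm (a.restrict φ) _ _ = _
    rw [sm_restrict, Category.assoc, IsIso.inv_hom_id, Category.comp_id, sm_dif]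
  · intro g hg
    change sm (a.restrict φ) _ _ = _ at hg
    rw [sm_restrict] at hg
    rw [dif_eq ha hg, Category.assoc, IsIso.hom_inv_id, Category.comp_id]

end Restrict

variable {k : Type u} [Field k] [IsAlgClosed k] [CharZero k]

section Fin

variable {A : Type u} [CommRing A] [HopfAlgebra k A]

omit [IsAlgClosed k] [CharZero k] in
theorem finite_sup (S T : Subgroup (Pt k A)) [T.Normal] [Finite S] (hc : ∀ a ∈ T, ∀ b ∈ T, a * b = b * a) (N : ℕ)
    (hT : {v | v ∈ T ∧ v ^ N = 1}.Finite) : Finite (S ⊔ tor T hc N : Subgroup (Pt k A)) := by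
  have h1 : Finite (tor T hc N) := Set.finite_coe_iff.2 hT
  have h2 : Function.Surjective (fun z : S × tor T hc N =>
      (⟨z.1 * z.2, (Uniform.mem_supR S (tor T hc N)).2 ⟨_, z.1.2, _, z.2.2, rfl⟩⟩ : (S ⊔ tor T hc N : Subgroup (Pt k A)))) := by
    rintro ⟨g, hg⟩
    obtain ⟨s, hs, t, ht, rfl⟩ := (Uniform.mem_supR S (tor T hc N)).1 hg
    exact ⟨(⟨s, hs⟩, ⟨t, ht⟩), rfl⟩
  exact Finite.of_surjective _ h2

end Fin

theorem main (N : Over (Spec (CommRingCat.of k))) [GrpObj N] [IsAffine N.left] [LocallyOfFiniteType N.hom]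
    {T : Over (Spec (CommRingCat.of k))} [GrpObj T] (t : T ⟶ N) (ht : Red.IsMaximalTorus t) (hn : AlgGrp.IsNormalHom t) :
    ∃ (S : Over (Spec (CommRingCat.of k))) (_ : GrpObj S) (i : S ⟶ N), IsMonHom i ∧ IsClosedImmersion i.left ∧
      IsFinite S.hom ∧ ∀ (K : Type u) [Field K] [Algebra k K]
        (P : NonAbH1.TorsorSch (Red.bc (ff k K) N) Scheme.etalePrecoverage),
        ∃ Q : NonAbH1.TorsorSch (Red.bc (ff k K) S) Scheme.etalePrecoverage,
          NonAbH1.IsPushforwardAlongSch ((Over.pullback (ff k K)).map i) Q.act P.act := by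
  obtain ⟨A, _, _, e, he⟩ := exists_hopf k N
  have hsm : Smooth N.hom := Groth.Agent.S0353.result k N
  have hsmA : Smooth (SpecOver k A).hom := by
    rw [hom_eq_of_iso e.symm]
    infer_instance
  have hftA : Algebra.FiniteType k A := by
    rw [← locallyOfFiniteType_specOver_iff]
    infer_instance
  have hred : _root_.IsReduced A := (BrPts.smooth_iff (K := k) A).1 hsmA
  have htm : IsMonHom t := ht.1
  have hmax := BrMax.isMaxTorusSub_of_isMaximalTorus t e ht
  have hnor : (ptsSub (t ≫ e.hom)).Normal := by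
    refine ⟨fun x hx g => ?_⟩
    obtain ⟨y, hy⟩ := hx
    obtain ⟨n', hn'⟩ := hn _ (ptEquiv k A g ≫ e.inv) y
    refine ⟨n', ?_⟩
    rw [map_mul, map_mul, map_inv, ← hy]
    have h1 := congrArg (fun z => z ≫ e.hom) hn'
    simp only [MonObj.mul_comp, GrpObj.inv_comp, Category.assoc, Iso.inv_hom_id, Category.comp_id] at h1
    exact h1.symm
  obtain ⟨n, π, hπ, hTπ⟩ := hmax.1
  rw [hTπ] at hmax hnor
  obtain ⟨U, S, hUcl, hUc, hUn, hUu, hSfin, hdec⟩ := exists_data hmax hnor
  have hc : ∀ a ∈ (Pt.map π).range, ∀ b ∈ (Pt.map π).range, a * b = b * a := by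
    rw [← jk_range]
    exact comm_range _
  let m := (Nat.card S).factorial * Nat.card S
  have hm : m ≠ 0 := Nat.mul_ne_zero (Nat.factorial_ne_zero _) Nat.card_pos.ne'
  let S' : Subgroup (Pt k A) := S ⊔ tor (Pt.map π).range hc m
  have hS'fin : Finite S' := finite_sup S _ hc m (by
    have h1 := tor_range (jk π) (jk_injective π hπ) hm
    rwa [jk_range] at h1)
  have hemi : IsMonHom e.inv := inferInstance
  let i : V S' ⟶ N := iV S' ≫ e.inv
  have hicl : IsClosedImmersion i.left := by
    have : IsIso e.inv.left := inferInstanceAs (IsIso ((Over.forget _).map e.inv))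
    rw [Over.comp_left]
    infer_instance
  refine ⟨V S', inferInstance, i, inferInstance, hicl, isFinite_V S', ?_⟩
  intro K _ _ P
  have hK : CharZero K := charZero_of_injective_algebraMap (algebraMap k K).injective
  let L := AlgebraicClosure K
  have hGaff : IsAffine (Red.bc (ff k K) N).left := inferInstanceAs (IsAffine (pullback N.hom (ff k K)))
  have hGft : LocallyOfFiniteType (Red.bc (ff k K) N).hom :=
    inferInstanceAs (LocallyOfFiniteType (pullback.snd N.hom (ff k K)))
  have hne : Nonempty P.X.left := RedTors.nonempty_of_etale P.isTorsor.2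
  have haff : IsAffine P.X.left := K826.TorsField.isAffine_of_torsor P.act P.isTorsor.1
  have hft : LocallyOfFiniteType P.X.hom := K826.TorsField.locallyOfFiniteType_of_torsor P.act P.isTorsor.1
  obtain ⟨x⟩ := RedTors.exists_pt L P.X
  let φ : Red.bc (ff k K) (SpecOver k A) ⟶ Red.bc (ff k K) N := (Over.pullback (ff k K)).map e.inv
  have hφm : IsMonHom φ := inferInstanceAs (IsMonHom ((Over.pullback (ff k K)).map e.inv))
  have hφi : IsIso φ := inferInstanceAs (IsIso ((Over.pullback (ff k K)).map e.inv))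
  obtain ⟨y, hy⟩ := exists_y π hπ hnor U S hUcl hUn hUu hdec K L (isPseudoTorsorSch_restrict φ P.isTorsor.1) x
  have hbcl : IsClosedImmersion ((Over.pullback (ff k K)).map i).left :=
    MorphismProperty.overPullbackMap (P := @IsClosedImmersion) (ff k K) i hicl
  have hSft : LocallyOfFiniteType (V S').hom := by
    have := isFinite_V S'
    infer_instance
  have hbft : LocallyOfFiniteType (Red.bc (ff k K) (V S')).hom :=
    inferInstanceAs (LocallyOfFiniteType (pullback.snd (V S').hom (ff k K)))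
  refine RedTors.exists_torsor ((Over.pullback (ff k K)).map i) L P.isTorsor.1 y fun σ => ?_
  obtain ⟨p, ⟨s, hs, q, hq, hq', rfl⟩, hp⟩ := hy σ
  have hpS : s * q ∈ ptsSub (iV S') := by
    rw [ptsSub_iV S' (isCl_of_finite _ (Set.toFinite _))]
    exact (Uniform.mem_supR S _).2 ⟨s, hs, q, ⟨hq, hq'⟩, rfl⟩
  obtain ⟨r, hr⟩ := hpS
  refine ⟨(lp k K L (V S')).symm (toK k L ≫ (unitIso k).inv ≫ r), ?_⟩
  rw [hp, sm_restrict]
  congr 1
  have h1 : cst K L A (s * q) = (lp k K L (V S')).symm (toK k L ≫ (unitIso k).inv ≫ r) ≫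
      (Over.pullback (ff k K)).map (iV S') := by
    apply (lp k K L (SpecOver k A)).injective
    rw [lp_comp, MulEquiv.apply_symm_apply, lp_cst, Category.assoc, Category.assoc, hr, ptEquiv_apply,
      Iso.inv_hom_id_assoc]
  rw [h1, Category.assoc]
  congr 1
  exact ((Over.pullback (ff k K)).map_comp (iV S') e.inv).symm

end K191.NormTors
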