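import Groth.Agent.NonAbH1.K554.StabAff
import Groth.Agent.SGA3.K205.Transporter
import Groth.Agent.S5356

/-!
# Reduction of the structure group of a torsor to a closed subgroup

`P` a pseudo-torsor under `G` over `S`, `H` a closed subgroup of `G`, `x : Ω ⟶ P` a point with values in a faithfully flat,
essentially free `Ω → S` such that `x(ω') ∈ H x(ω)` on `Ω ⊗ Ω`.  Then `P` has a closed subscheme `Q` which is a pseudo-torsor under
`H` and through which `x` factors.
-/

set_option autoImplicit false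
universe u

open CategoryTheory CategoryTheory.Limits MonoidalCategory CartesianMonoidalCategory MonObj GrpObj AlgebraicGeometry
open Groth.Agent.Books.BorelOrb K554.Fpqc K554.FibAct

namespace K191.Reduce

section Desc

variable {S : Scheme.{u}}

/-- A point of `G` which is in the subobject `H` after a faithfully flat quasi-compact base change is in `H`. -/
theorem exists_of_cover {G H R R' : Over S} (i : H ⟶ G) [Mono i] (f : R' ⟶ R) [Flat f.left] [Surjective f.left]
    [QuasiCompact f.left] (d : R ⟶ G) (y : R' ⟶ H) (hy : y ≫ i = f ≫ d) : ∃ h : R ⟶ H, h ≫ i = d := by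
  have hloc : NonAbH1.IsLocallyTrivialFor Scheme.fpqcPrecoverage (Over.mk f.left) :=
    ⟨Presieve.singleton f.left, Scheme.Hom.singleton_mem_fpqcPrecoverage f.left, by
      rintro _ _ ⟨⟩
      exact ⟨𝟙 _, Category.id_comp _⟩⟩
  have him : Mono i.left := inferInstanceAs (Mono ((Over.forget S).map i))
  have hyl : y.left ≫ i.left = f.left ≫ d.left := by rw [← Over.comp_left, hy, Over.comp_left]
  obtain ⟨t, ht⟩ := exists_desc Scheme.fpqcPrecoverage (X := Over.mk f.left) hloc y.left (by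
    rw [← cancel_mono i.left, Category.assoc, Category.assoc, hyl]
    change pullback.fst f.left f.left ≫ f.left ≫ d.left = pullback.snd f.left f.left ≫ f.left ≫ d.left
    rw [pullback.condition_assoc])
  have ht' : f.left ≫ t = y.left := ht
  have h1 : t ≫ i.left = d.left := by
    apply epi_of_isLocallyTrivialFor Scheme.fpqcPrecoverage hloc
    change f.left ≫ t ≫ i.left = f.left ≫ d.left
    rw [reassoc_of% ht', hyl]
  refine ⟨Over.homMk t ?_, ?_⟩
  · rw [← Over.w i, ← Category.assoc, h1, Over.w]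
  · ext1
    exact h1

variable {G H P Ω : Over S} [GrpObj G] [GrpObj H] (i : H ⟶ G) [IsMonHom i] [IsClosedImmersion i.left]

theorem exists_sub {a : AlgGrp.Action G P} (ha : NonAbH1.IsPseudoTorsorSch a) (x : Ω ⟶ P)
    (hΩ : SGA3x.IsEssentiallyFree Ω.hom) [Flat Ω.hom] [Surjective Ω.hom] [QuasiCompact Ω.hom]
    (h0 : ∃ h : Ω ⊗ Ω ⟶ H, h ≫ i = dif ha (snd Ω Ω ≫ x) (fst Ω Ω ≫ x)) :
    ∃ (Q : Over S) (z : Q ⟶ P) (b : AlgGrp.Action H Q), IsClosedImmersion z.left ∧ NonAbH1.IsPseudoTorsorSch b ∧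
      (∀ (R : Over S) (h : R ⟶ H) (v : R ⟶ Q), sm b h v ≫ z = sm a (h ≫ i) (v ≫ z)) ∧ ∃ y : Ω ⟶ Q, y ≫ z = x := by
  obtain ⟨Q, z, hz, huniv⟩ := K205.Transporter.exists_closed hΩ (dif ha (snd Ω P) (fst Ω P ≫ x)) i
  have hmi : Mono i := by
    have : Mono ((Over.forget S).map i) := inferInstanceAs (Mono i.left)
    exact (Over.forget S).mono_of_mono_map this
  have hmz : Mono z := by
    have : Mono ((Over.forget S).map z) := inferInstanceAs (Mono z.left)
    exact (Over.forget S).mono_of_mono_map this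
  have huniv' : ∀ {R : Over S} (g : R ⟶ P), (∃ e : R ⟶ Q, e ≫ z = g) ↔
      ∃ y : Ω ⊗ R ⟶ H, y ≫ i = dif ha (snd Ω R ≫ g) (fst Ω R ≫ x) := by
    intro R g
    rw [huniv, comp_dif, whiskerLeft_snd, whiskerLeft_fst_assoc]
  have hj : ∀ (R : Over S) (h : R ⟶ H) (v : R ⟶ Q), ∃ w : R ⟶ Q, w ≫ z = sm a (h ≫ i) (v ≫ z) := by
    intro R h v
    obtain ⟨y, hy⟩ := (huniv' (v ≫ z)).1 ⟨v, rfl⟩
    rw [huniv']
    refine ⟨(snd Ω R ≫ h) * y, ?_⟩
    rw [comp_sm, dif_sm_left, MonObj.mul_comp, hy, Category.assoc]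
  obtain ⟨b, hb⟩ := K554.StabAff.exists_subAct i a z hj
  have hsnd : ∀ R : Over S, Flat (snd Ω R).left ∧ Surjective (snd Ω R).left ∧ QuasiCompact (snd Ω R).left := by
    intro R
    change Flat (pullback.snd Ω.hom R.hom) ∧ Surjective (pullback.snd Ω.hom R.hom) ∧
      QuasiCompact (pullback.snd Ω.hom R.hom)
    exact ⟨inferInstance, inferInstance, inferInstance⟩
  refine ⟨Q, z, b, hz, K554.StabAff.isPseudoTorsorSch_sub (i := i) ha b hb ?_, hb, ?_⟩
  · intro R v v'
    obtain ⟨y, hy⟩ := (huniv' (v ≫ z)).1 ⟨v, rfl⟩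
    obtain ⟨y', hy'⟩ := (huniv' (v' ≫ z)).1 ⟨v', rfl⟩
    obtain ⟨h1, h2, h3⟩ := hsnd R
    refine exists_of_cover i (snd Ω R) (dif ha (v ≫ z) (v' ≫ z)) (y * y'⁻¹) ?_
    rw [MonObj.mul_comp, GrpObj.inv_comp, hy, hy', dif_inv, dif_mul_dif, comp_dif]
  · exact (huniv' x).2 h0

end Desc

end K191.Reduce
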